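import Mathlib

/-!
# Transvections as elements of the general linear group
-/

set_option autoImplicit false

namespace Cfsg.Agent.TransvGen

variable {k V : Type*} [Field k] [AddCommGroup V] [Module k V]

/-- `x ↦ x + f x • v` if `f v = 0`, and `1` otherwise. -/
noncomputable def tv (v : V) (f : Module.Dual k V) : V ≃ₗ[k] V := by
  classical
  exact if h : f v = 0 then LinearEquiv.transvection h else 1

theorem tv_apply {v : V} {f : Module.Dual k V} (h : f v = 0) (x : V) :
    tv v f x = x + f x • v := by
  simp [tv, h, LinearMap.transvection.apply]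

theorem tv_zero_left (f : Module.Dual k V) : tv (0 : V) f = 1 := by
  ext x; simp [tv_apply (map_zero f)]

theorem tv_zero_right (v : V) : tv v (0 : Module.Dual k V) = 1 := by
  ext x; simp [tv_apply (f := (0 : Module.Dual k V)) (v := v) rfl]

theorem tv_add_left {v w : V} {f : Module.Dual k V} (hv : f v = 0) (hw : f w = 0) :
    tv v f * tv w f = tv (v + w) f := by
  ext x
  have h : f (v + w) = 0 := by rw [map_add, hv, hw, add_zero]
  simp [tv_apply hv, tv_apply hw, tv_apply h, hw, smul_add]
  abel

theorem tv_add_right {v : V} {f g : Module.Dual k V} (hf : f v = 0) (hg : g v = 0) :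
    tv v f * tv v g = tv v (f + g) := by
  ext x
  have h : (f + g) v = 0 := by rw [LinearMap.add_apply, hf, hg, add_zero]
  simp [tv_apply hf, tv_apply hg, tv_apply h, hf, add_smul]
  abel

theorem tv_inv {v : V} {f : Module.Dual k V} (h : f v = 0) : (tv v f)⁻¹ = tv (-v) f := by
  refine inv_eq_of_mul_eq_one_right ?_
  rw [tv_add_left h (by rw [map_neg, h, neg_zero]), add_neg_cancel, tv_zero_left]

theorem tv_smul_eq {v : V} {f : Module.Dual k V} (h : f v = 0) (c : k) :
    tv (c • v) f = tv v (c • f) := by
  ext x
  rw [tv_apply (by rw [map_smul, h, smul_zero]), tv_apply (by simp [h])]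
  simp [smul_smul, mul_comm]

theorem tv_pow {v : V} {f : Module.Dual k V} (h : f v = 0) (n : ℕ) :
    tv v f ^ n = tv ((n : k) • v) f := by
  induction n with
  | zero => simp [tv_zero_left]
  | succ n ih =>
    rw [pow_succ, ih, tv_add_left (by rw [map_smul, h, smul_zero]) h]
    congr 1
    push_cast
    rw [add_smul, one_smul]

theorem tv_conj (e : V ≃ₗ[k] V) {v : V} {f : Module.Dual k V} (h : f v = 0) :
    e * tv v f * e⁻¹ = tv (e v) (f.comp e.symm.toLinearMap) := by
  ext x
  rw [tv_apply (by simp [h])]
  simp [tv_apply h, LinearEquiv.coe_inv]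

/-- An element of order `p` over the field with `p` elements fixing a hyperplane pointwise is a
transvection. -/
theorem exists_eq_tv {p : ℕ} [Fact p.Prime] {U : Type*} [AddCommGroup U] [Module (ZMod p) U]
    [Finite U] (t : U ≃ₗ[ZMod p] U) (ho : orderOf t = p)
    (hh : Module.finrank (ZMod p) ↥(LinearMap.ker ((t : U →ₗ[ZMod p] U) - LinearMap.id)) + 1 =
      Module.finrank (ZMod p) U) :
    ∃ (v : U) (f : Module.Dual (ZMod p) U), f v = 0 ∧ v ≠ 0 ∧ f ≠ 0 ∧ t = tv v f := by
  have : Module.Finite (ZMod p) U := Module.Finite.of_finite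
  have hr : Module.finrank (ZMod p)
      (LinearMap.range ((t : U →ₗ[ZMod p] U) - LinearMap.id)) ≤ 1 := by
    have := LinearMap.finrank_range_add_finrank_ker ((t : U →ₗ[ZMod p] U) - LinearMap.id)
    omega
  obtain ⟨f, v, htv⟩ := LinearEquiv.mem_dilatransvections_iff_finrank.mpr hr
  have htx : ∀ x, t x = x + f x • v := fun x => LinearMap.congr_fun htv x
  have ht1 : t ≠ 1 := by
    intro h
    rw [h, orderOf_one] at ho
    exact (Fact.out : p.Prime).ne_one ho.symm
  have hv : v ≠ 0 := by
    intro h
    apply ht1
    ext x; simp [htx, h]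
  have hf : f ≠ 0 := by
    intro h
    apply ht1
    ext x; simp [htx, h]
  have hfv : f v = 0 := by
    have hpow : ∀ n : ℕ, (t ^ n) v = (1 + f v) ^ n • v := by
      intro n
      induction n with
      | zero => simp
      | succ n ih =>
        rw [pow_succ', LinearEquiv.mul_apply, ih, map_smul, htx v, pow_succ, mul_smul,
          add_smul, one_smul]
    have h1 : (t ^ p) v = v := by
      have h2 := pow_orderOf_eq_one t
      rw [ho] at h2
      rw [h2]; rfl
    rw [hpow, ZMod.pow_card] at h1
    have : (1 + f v - 1) • v = 0 := by rw [sub_smul, one_smul, h1, sub_self]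
    simpa [hv] using this
  exact ⟨v, f, hfv, hv, hf, LinearEquiv.ext fun x => by rw [htx, tv_apply hfv]⟩

end Cfsg.Agent.TransvGen
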