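import Mathlib
import Cfsg.Agent.TransvGen.Basic

/-!
# Transvections generate the special linear group and the symplectic group
-/

set_option autoImplicit false

namespace Cfsg.Agent.TransvGen

open Module

variable {k U : Type*} [Field k] [AddCommGroup U] [Module k U]

/-- The fixed space. -/
def fixSp (g : U ≃ₗ[k] U) : Submodule k U :=
  LinearMap.ker ((g : U →ₗ[k] U) - LinearMap.id)

theorem mem_fixSp {g : U ≃ₗ[k] U} {x : U} : x ∈ fixSp g ↔ g x = x := by
  simp [fixSp, sub_eq_zero]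

theorem eq_one_of_fixSp {g : U ≃ₗ[k] U} (h : fixSp g = ⊤) : g = 1 :=
  LinearEquiv.ext fun x => mem_fixSp.mp (h ▸ Submodule.mem_top)

theorem apply_notMem_fixSp {g : U ≃ₗ[k] U} {x : U} (h : x ∉ fixSp g) : g x ∉ fixSp g := by
  intro h'
  rw [mem_fixSp] at h' h
  exact h (g.injective h')

/-- Reduction step: enlarge the fixed space. -/
theorem mem_of_step [FiniteDimensional k U] (G : Subgroup (U ≃ₗ[k] U))
    (P : (U ≃ₗ[k] U) → Prop) (hP : ∀ g, P g → ∀ s ∈ G, P (s * g))
    (step : ∀ g, P g → g ≠ 1 →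
      g ∈ G ∨ ∃ s ∈ G, ∃ x ∉ fixSp g, s (g x) = x ∧ ∀ y ∈ fixSp g, s y = y)
    (g : U ≃ₗ[k] U) (hg : P g) : g ∈ G := by
  induction hn : finrank k U - finrank k (fixSp g) using Nat.strong_induction_on generalizing g
  next n ih =>
  by_cases h1 : g = 1
  · rw [h1]; exact G.one_mem
  rcases step g hg h1 with h | ⟨s, hs, x, hx, hsx, hfix⟩
  · exact h
  have hle : fixSp g ≤ fixSp (s * g) := fun y hy => by
    rw [mem_fixSp, LinearEquiv.mul_apply, mem_fixSp.mp hy, hfix y hy]
  have hlt : fixSp g < fixSp (s * g) := lt_of_le_of_ne hle fun e => hx (by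
    rw [e, mem_fixSp, LinearEquiv.mul_apply, hsx])
  have h2 := Submodule.finrank_lt_finrank_of_lt hlt
  have h3 := Submodule.finrank_le (fixSp (s * g))
  have := ih _ (by omega) (s * g) (hP g hg s hs) rfl
  exact (Subgroup.mul_mem_cancel_left G hs).mp this

theorem exists_notMem_two {N M : Submodule k U} (hN : N ≠ ⊤) (hM : M ≠ ⊤) :
    ∃ y, y ∉ N ∧ y ∉ M := by
  obtain ⟨a, ha⟩ : ∃ a, a ∉ N := by
    by_contra! h; exact hN (Submodule.eq_top_iff'.mpr h)
  obtain ⟨b, hb⟩ : ∃ b, b ∉ M := by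
    by_contra! h; exact hM (Submodule.eq_top_iff'.mpr h)
  by_cases haM : a ∈ M
  swap
  · exact ⟨a, ha, haM⟩
  by_cases hbN : b ∈ N
  swap
  · exact ⟨b, hbN, hb⟩
  exact ⟨a + b, fun h => ha ((N.add_mem_iff_left hbN).mp h),
    fun h => hb ((M.add_mem_iff_right haM).mp h)⟩

theorem det_tv [FiniteDimensional k U] {v : U} {f : Dual k U} (h : f v = 0) :
    LinearMap.det (tv v f : U →ₗ[k] U) = 1 := by
  have : (tv v f : U →ₗ[k] U) = LinearMap.transvection f v := by
    ext x
    exact tv_apply h x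
  rw [this, LinearMap.transvection.det, h, add_zero]

/-- The group generated by all transvections. -/
def slGroup (k U : Type*) [Field k] [AddCommGroup U] [Module k U] : Subgroup (U ≃ₗ[k] U) :=
  Subgroup.closure {s | ∃ (v : U) (f : Dual k U), f v = 0 ∧ s = tv v f}

theorem tv_mem_slGroup {v : U} {f : Dual k U} (h : f v = 0) : tv v f ∈ slGroup k U :=
  Subgroup.subset_closure ⟨v, f, h, rfl⟩

theorem det_of_mem [FiniteDimensional k U] {s : U ≃ₗ[k] U} (hs : s ∈ slGroup k U) :
    LinearMap.det (s : U →ₗ[k] U) = 1 := by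
  have : slGroup k U ≤ (LinearEquiv.det (R := k) (M := U)).ker := by
    refine (Subgroup.closure_le _).mpr ?_
    rintro _ ⟨v, f, h, rfl⟩
    rw [SetLike.mem_coe, MonoidHom.mem_ker, ← Units.val_inj, LinearEquiv.coe_det, det_tv h]
    rfl
  have := MonoidHom.mem_ker.mp (this hs)
  rw [← Units.val_inj, LinearEquiv.coe_det] at this
  exact this

theorem sl_move [FiniteDimensional k U] {N : Submodule k U} {a b : U}
    (h : a ∉ N ⊔ Submodule.span k {b - a}) :
    ∃ s ∈ slGroup k U, s a = b ∧ ∀ y ∈ N, s y = y := by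
  obtain ⟨ℓ, hℓa, hℓ⟩ := Submodule.exists_dual_map_eq_bot_of_notMem h inferInstance
  have hz : ∀ y ∈ N ⊔ Submodule.span k {b - a}, ((ℓ a)⁻¹ • ℓ) y = 0 := by
    intro y hy
    have := Submodule.mem_map_of_mem (f := ℓ) hy
    rw [hℓ, Submodule.mem_bot] at this
    simp [this]
  have h0 : ((ℓ a)⁻¹ • ℓ) (b - a) = 0 :=
    hz _ (Submodule.mem_sup_right (Submodule.mem_span_singleton_self _))
  refine ⟨_, tv_mem_slGroup h0, ?_, fun y hy => ?_⟩
  · rw [tv_apply h0, LinearMap.smul_apply, smul_eq_mul, inv_mul_cancel₀ hℓa, one_smul,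
      add_sub_cancel]
  · rw [tv_apply h0, hz y (Submodule.mem_sup_left hy), zero_smul, add_zero]

theorem notMem_of_notMem {N : Submodule k U} {a b : U} (ha : a ∉ N)
    (hb : b ∉ N ⊔ Submodule.span k {a}) : a ∉ N ⊔ Submodule.span k {b - a} := by
  intro h
  obtain ⟨n, hn, _, hc, he⟩ := Submodule.mem_sup.mp h
  obtain ⟨c, rfl⟩ := Submodule.mem_span_singleton.mp hc
  by_cases hc0 : c = 0
  · exact ha (by rw [← he, hc0, zero_smul, add_zero]; exact hn)
  refine hb (Submodule.mem_sup.mpr ⟨(-c⁻¹) • n, N.smul_mem _ hn, (1 + c⁻¹) • a,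
    Submodule.mem_span_singleton.mpr ⟨_, rfl⟩, ?_⟩)
  have : c⁻¹ • (n + c • (b - a)) = c⁻¹ • a := by rw [he]
  rw [smul_add, inv_smul_smul₀ hc0] at this
  calc (-c⁻¹) • n + (1 + c⁻¹) • a = c⁻¹ • a - c⁻¹ • n + a := by module
    _ = b := by rw [← this]; abel

theorem notMem_of_notMem' {N : Submodule k U} {a b : U} (hb : b ∉ N)
    (ha : a ∉ N ⊔ Submodule.span k {b}) : a ∉ N ⊔ Submodule.span k {b - a} := by
  intro h
  obtain ⟨n, hn, _, hc, he⟩ := Submodule.mem_sup.mp h
  obtain ⟨c, rfl⟩ := Submodule.mem_span_singleton.mp hc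
  by_cases hc0 : 1 + c = 0
  · have hc1 : c = -1 := by linear_combination hc0
    apply hb
    rw [hc1, neg_smul, one_smul, neg_sub] at he
    have : b = n := by
      calc b = b + ((n + (a - b)) - a) := by rw [he]; abel
        _ = n := by abel
    rw [this]; exact hn
  refine ha (Submodule.mem_sup.mpr ⟨(1 + c)⁻¹ • n, N.smul_mem _ hn, ((1 + c)⁻¹ * c) • b,
    Submodule.mem_span_singleton.mpr ⟨_, rfl⟩, ?_⟩)
  have h2 : (1 + c) • a = n + c • b := by
    calc (1 + c) • a = (n + c • (b - a)) + c • a := by rw [he]; module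
      _ = n + c • b := by module
  rw [mul_smul, ← smul_add, ← h2, inv_smul_smul₀ hc0]

/-- The special linear group is generated by transvections. -/
theorem mem_of_det_eq_one [FiniteDimensional k U] (G : Subgroup (U ≃ₗ[k] U))
    (hG : ∀ (v : U) (f : Dual k U), f v = 0 → tv v f ∈ G) (g : U ≃ₗ[k] U)
    (hdet : LinearMap.det (g : U →ₗ[k] U) = 1) : g ∈ G := by
  have hle : slGroup k U ≤ G := by
    refine (Subgroup.closure_le _).mpr ?_
    rintro _ ⟨v, f, h, rfl⟩
    exact hG v f h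
  refine hle (mem_of_step (slGroup k U) (fun h => LinearMap.det (h : U →ₗ[k] U) = 1) ?_ ?_ g hdet)
  · intro h hh s hs
    rw [show ((s * h : U ≃ₗ[k] U) : U →ₗ[k] U) = (s : U →ₗ[k] U) ∘ₗ (h : U →ₗ[k] U) from rfl,
      LinearMap.det_comp, det_of_mem hs, hh, one_mul]
  · intro h hh h1
    by_cases hcod : finrank k U ≤ finrank k (fixSp h) + 1
    · left
      have hr : finrank k (LinearMap.range ((h : U →ₗ[k] U) - LinearMap.id)) ≤ 1 := by
        have : finrank k (LinearMap.range ((h : U →ₗ[k] U) - LinearMap.id)) + finrank k (fixSp h) =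
            finrank k U :=
          LinearMap.finrank_range_add_finrank_ker ((h : U →ₗ[k] U) - LinearMap.id)
        omega
      obtain ⟨f, v, hfv⟩ := LinearEquiv.mem_dilatransvections_iff_finrank.mpr hr
      have hd := hh
      rw [hfv, LinearMap.transvection.det, add_eq_left] at hd
      have : h = tv v f := LinearEquiv.ext fun x => by
        rw [tv_apply hd]; exact LinearMap.congr_fun hfv x
      rw [this]
      exact tv_mem_slGroup hd
    right
    obtain ⟨x, hx⟩ : ∃ x, x ∉ fixSp h := by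
      by_contra! hc; exact h1 (eq_one_of_fixSp (Submodule.eq_top_iff'.mpr hc))
    have hlt : ∀ u : U, fixSp h ⊔ Submodule.span k {u} ≠ ⊤ := by
      intro u hu
      have e1 := Submodule.finrank_add_le_finrank_add_finrank (fixSp h) (Submodule.span k {u})
      have e2 := finrank_span_le_card (R := k) ({u} : Set U)
      rw [hu, finrank_top] at e1
      simp at e2
      omega
    obtain ⟨y, hy1, hy2⟩ := exists_notMem_two (hlt (h x)) (hlt x)
    obtain ⟨s₁, hs₁, hs₁', hs₁f⟩ := sl_move (notMem_of_notMem (apply_notMem_fixSp hx) hy1)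
    obtain ⟨s₂, hs₂, hs₂', hs₂f⟩ := sl_move (notMem_of_notMem' hx hy2)
    exact ⟨s₂ * s₁, Subgroup.mul_mem _ hs₂ hs₁, x, hx,
      by rw [LinearEquiv.mul_apply, hs₁', hs₂'],
      fun z hz => by rw [LinearEquiv.mul_apply, hs₁f z hz, hs₂f z hz]⟩

/-- The group generated by the symplectic transvections. -/
def spGroup (β : LinearMap.BilinForm k U) : Subgroup (U ≃ₗ[k] U) :=
  Subgroup.closure {s | ∃ (a : U) (c : k), s = tv a (c • β a)}

theorem spGroup_isometry {β : LinearMap.BilinForm k U} (halt : β.IsAlt) {s : U ≃ₗ[k] U}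
    (hs : s ∈ spGroup β) : ∀ x y, β (s x) (s y) = β x y := by
  induction hs using Subgroup.closure_induction with
  | mem s hs =>
    obtain ⟨a, c, rfl⟩ := hs
    intro x y
    have h0 : (c • β a) a = 0 := by simp [halt a]
    simp [tv_apply h0, halt a, ← LinearMap.IsAlt.neg halt a x]
    ring
  | one => exact fun x y => rfl
  | mul a b _ _ ha hb => exact fun x y => by rw [LinearEquiv.mul_apply, LinearEquiv.mul_apply,
      ha, hb]
  | inv a _ ha =>
    intro x y
    have := ha (a⁻¹ x) (a⁻¹ y)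
    rwa [← LinearEquiv.mul_apply, ← LinearEquiv.mul_apply, mul_inv_cancel,
      show (1 : U ≃ₗ[k] U) x = x from rfl, show (1 : U ≃ₗ[k] U) y = y from rfl, eq_comm] at this

theorem sp_move {β : LinearMap.BilinForm k U} (halt : β.IsAlt) {N : Submodule k U} {a b : U}
    (hab : β a b ≠ 0) (hN : ∀ n ∈ N, β b n = β a n) :
    ∃ s ∈ spGroup β, s a = b ∧ ∀ y ∈ N, s y = y := by
  set c := (β (b - a) a)⁻¹
  have h0 : (c • β (b - a)) (b - a) = 0 := by
    rw [LinearMap.smul_apply, halt (b - a), smul_zero]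
  refine ⟨_, Subgroup.subset_closure ⟨b - a, c, rfl⟩, ?_, fun y hy => ?_⟩
  · have hne : β (b - a) a ≠ 0 := by
      rw [map_sub, LinearMap.sub_apply, halt a, sub_zero, ← LinearMap.IsAlt.neg halt a b]
      exact neg_ne_zero.mpr hab
    rw [tv_apply h0, LinearMap.smul_apply, smul_eq_mul, inv_mul_cancel₀ hne, one_smul,
      add_sub_cancel]
  · rw [tv_apply h0, LinearMap.smul_apply, map_sub, LinearMap.sub_apply, hN y hy, sub_self,
      smul_zero, zero_smul, add_zero]

/-- The isometry group of a nondegenerate alternating form is generated by transvections. -/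
theorem mem_of_isometry [FiniteDimensional k U] {β : LinearMap.BilinForm k U} (halt : β.IsAlt)
    (hnd : β.Nondegenerate) (G : Subgroup (U ≃ₗ[k] U))
    (hG : ∀ (a : U) (c : k), tv a (c • β a) ∈ G) (g : U ≃ₗ[k] U)
    (hiso : ∀ x y, β (g x) (g y) = β x y) : g ∈ G := by
  have hle : spGroup β ≤ G := by
    refine (Subgroup.closure_le _).mpr ?_
    rintro _ ⟨a, c, rfl⟩
    exact hG a c
  refine hle (mem_of_step (spGroup β) (fun h => ∀ x y, β (h x) (h y) = β x y) ?_ ?_ g hiso)
  · intro h hh s hs x y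
    rw [LinearEquiv.mul_apply, LinearEquiv.mul_apply, spGroup_isometry halt hs, hh]
  intro h hh h1
  right
  obtain ⟨x, hx⟩ : ∃ x, x ∉ fixSp h := by
    by_contra! hc; exact h1 (eq_one_of_fixSp (Submodule.eq_top_iff'.mpr hc))
  have hfix : ∀ n ∈ fixSp h, β (h x) n = β x n := by
    intro n hn
    conv_lhs => rw [← mem_fixSp.mp hn]
    exact hh x n
  by_cases hxh : β (h x) x = 0
  swap
  · obtain ⟨s, hs, hs', hsf⟩ := sp_move halt hxh (fun n hn => (hfix n hn).symm)
    exact ⟨s, hs, x, hx, hs', hsf⟩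
  have hperp : ∀ u ∉ fixSp h, ∃ z, (∀ n ∈ fixSp h, β z n = 0) ∧ β z u ≠ 0 := by
    intro u hu
    obtain ⟨ℓ, hℓu, hℓ⟩ := Submodule.exists_dual_map_eq_bot_of_notMem hu inferInstance
    have hinj : Function.Injective β := by
      rw [injective_iff_map_eq_zero]
      exact fun m hm => hnd.1 m fun n => by rw [hm]; rfl
    obtain ⟨z, hz⟩ := (LinearMap.injective_iff_surjective_of_finrank_eq_finrank
      (Subspace.dual_finrank_eq).symm).mp hinj ℓ
    refine ⟨z, fun n hn => ?_, by rw [hz]; exact hℓu⟩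
    have := Submodule.mem_map_of_mem (f := ℓ) hn
    rw [hℓ, Submodule.mem_bot] at this
    rw [hz]; exact this
  obtain ⟨z, hz, hzx, hzh⟩ : ∃ z, (∀ n ∈ fixSp h, β z n = 0) ∧ β z x ≠ 0 ∧ β z (h x) ≠ 0 := by
    obtain ⟨z₁, h11, h12⟩ := hperp x hx
    obtain ⟨z₂, h21, h22⟩ := hperp (h x) (apply_notMem_fixSp hx)
    by_cases e1 : β z₁ (h x) = 0
    swap
    · exact ⟨z₁, h11, h12, e1⟩
    by_cases e2 : β z₂ x = 0
    swap
    · exact ⟨z₂, h21, e2, h22⟩
    exact ⟨z₁ + z₂, fun n hn => by simp [h11 n hn, h21 n hn], by simpa [e2] using h12,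
      by simpa [e1] using h22⟩
  have hxh' : β x (h x) = 0 := by rw [← LinearMap.IsAlt.neg halt (h x) x, hxh, neg_zero]
  have hy1 : β (h x) (x + z) ≠ 0 := by
    rw [← LinearMap.IsAlt.neg halt (x + z) (h x)]
    simpa [hxh'] using hzh
  have hy2 : β (x + z) x ≠ 0 := by simpa [halt x] using hzx
  obtain ⟨s₁, hs₁, hs₁', hs₁f⟩ := sp_move halt (N := fixSp h) hy1
    (fun n hn => by simp [hz n hn, hfix n hn])
  obtain ⟨s₂, hs₂, hs₂', hs₂f⟩ := sp_move halt (N := fixSp h) hy2
    (fun n hn => by simp [hz n hn])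
  exact ⟨s₂ * s₁, Subgroup.mul_mem _ hs₂ hs₁, x, hx,
    by rw [LinearEquiv.mul_apply, hs₁', hs₂'],
    fun y hy => by rw [LinearEquiv.mul_apply, hs₁f y hy, hs₂f y hy]⟩

end Cfsg.Agent.TransvGen
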