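import Mathlib

/-!
# Systems of incident pairs (point, axis) closed under transvection moves
-/

set_option autoImplicit false

namespace Cfsg.Agent.TransvGen

open Module

/-- A set of incident pairs with the closure properties of the transvections contained in a group
generated by transvections without normal unipotent subgroups. -/
structure PairSys (k V W : Type*) [Field k] [AddCommGroup V] [Module k V] [AddCommGroup W]
    [Module k W] where
  /-- the pairing -/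
  B : V →ₗ[k] W →ₗ[k] k
  /-- the pairs -/
  Φ : Set (V × W)
  inc : ∀ {v f}, (v, f) ∈ Φ → B v f = 0
  zeroL : ∀ f, ((0 : V), f) ∈ Φ
  zeroR : ∀ v, (v, (0 : W)) ∈ Φ
  smulL : ∀ {v f} (c : k), (v, f) ∈ Φ → (c • v, f) ∈ Φ
  smulR : ∀ {v f} (c : k), (v, f) ∈ Φ → (v, c • f) ∈ Φ
  addL : ∀ {v w f}, (v, f) ∈ Φ → (w, f) ∈ Φ → (v + w, f) ∈ Φ
  addR : ∀ {v f g}, (v, f) ∈ Φ → (v, g) ∈ Φ → (v, f + g) ∈ Φ
  move : ∀ {v f w g} (c : k), (v, f) ∈ Φ → (w, g) ∈ Φ →
    (w + (c * B w f) • v, g - (c * B v g) • f) ∈ Φ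
  partner : ∀ {v f}, (v, f) ∈ Φ → v ≠ 0 → f ≠ 0 →
    ∃ w g, (w, g) ∈ Φ ∧ B v g ≠ 0 ∧ B w f ≠ 0
  congr : ∀ {v f v' f'}, (v, f) ∈ Φ → (v', f') ∈ Φ → v ≠ 0 → f ≠ 0 → v' ≠ 0 → f' ≠ 0 →
    (∀ w g, (w, g) ∈ Φ → w ≠ 0 → g ≠ 0 → B (v - v') g = 0 ∧ B w (f - f') = 0) →
    ∃ c : k, c ≠ 0 ∧ v' = c • v ∧ f = c • f'

namespace PairSys

variable {k V W : Type*} [Field k] [AddCommGroup V] [Module k V] [AddCommGroup W]
    [Module k W] (S : PairSys k V W)

/-- The dual system. -/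
def flip : PairSys k W V where
  B := S.B.flip
  Φ := {p | p.swap ∈ S.Φ}
  inc h := S.inc h
  zeroL v := S.zeroR v
  zeroR f := S.zeroL f
  smulL c h := S.smulR c h
  smulR c h := S.smulL c h
  addL h₁ h₂ := S.addR h₁ h₂
  addR h₁ h₂ := S.addL h₁ h₂
  move {f v g w} c h₁ h₂ := by
    have := S.move (-c) h₁ h₂
    simpa [Set.mem_ofPred_eq, Prod.swap, sub_eq_add_neg] using this
  partner {f v} h hf hv := by
    obtain ⟨w, g, h1, h2, h3⟩ := S.partner h hv hf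
    exact ⟨g, w, h1, h3, h2⟩
  congr {f v f' v'} h h' hf hv hf' hv' hc := by
    obtain ⟨c, hc0, h1, h2⟩ := S.congr (v := v) (f := f) (v' := v') (f' := f') h h' hv hf hv' hf'
      (fun w g hwg hw hg => by
        obtain ⟨a, b⟩ := hc g w hwg hg hw
        exact ⟨b, a⟩)
    exact ⟨c⁻¹, inv_ne_zero hc0, by rw [h2, inv_smul_smul₀ hc0],
      by rw [h1, inv_smul_smul₀ hc0]⟩

@[simp] theorem flip_B (f : W) (v : V) : S.flip.B f v = S.B v f := rfl

theorem mem_flip {p : W × V} : p ∈ S.flip.Φ ↔ p.swap ∈ S.Φ := Iff.rfl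

/-- A pair of a nontrivial transvection. -/
def NZ (p : V × W) : Prop := p ∈ S.Φ ∧ p.1 ≠ 0 ∧ p.2 ≠ 0

/-- Two transvections generating a group `SL₂`. -/
def R (p q : V × W) : Prop := S.NZ p ∧ S.NZ q ∧ S.B p.1 q.2 ≠ 0 ∧ S.B q.1 p.2 ≠ 0

/-- The components. -/
def Conn : V × W → V × W → Prop := Relation.ReflTransGen S.R

theorem conn_symm {p q : V × W} (h : S.Conn p q) : S.Conn q p := by
  induction h with
  | refl => exact Relation.ReflTransGen.refl
  | tail _ h₂ ih => exact Relation.ReflTransGen.head ⟨h₂.2.1, h₂.1, h₂.2.2.2, h₂.2.2.1⟩ ih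

theorem conn_trans {p q r : V × W} (h₁ : S.Conn p q) (h₂ : S.Conn q r) : S.Conn p r :=
  Relation.ReflTransGen.trans h₁ h₂

theorem conn_nz {p q : V × W} (h : S.Conn p q) (hp : S.NZ p) : S.NZ q := by
  induction h with
  | refl => exact hp
  | tail _ h₂ _ => exact h₂.2.1

theorem conn_flip {p q : V × W} (h : S.Conn p q) : S.flip.Conn p.swap q.swap := by
  induction h with
  | refl => exact Relation.ReflTransGen.refl
  | tail _ h₂ ih =>
    exact ih.tail ⟨⟨h₂.1.1, h₂.1.2.2, h₂.1.2.1⟩, ⟨h₂.2.1.1, h₂.2.1.2.2, h₂.2.1.2.1⟩,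
      h₂.2.2.2, h₂.2.2.1⟩

theorem conn_of_flip {p q : W × V} (h : S.flip.Conn p q) : S.Conn p.swap q.swap := by
  induction h with
  | refl => exact Relation.ReflTransGen.refl
  | tail _ h₂ ih =>
    exact ih.tail ⟨⟨h₂.1.1, h₂.1.2.2, h₂.1.2.1⟩, ⟨h₂.2.1.1, h₂.2.1.2.2, h₂.2.1.2.1⟩,
      h₂.2.2.2, h₂.2.2.1⟩

/-- If `B w f ≠ 0` and `B v g = 0` for two pairs, then `(v, g)` is a pair. -/
theorem rule {v : V} {f : W} {w : V} {g : W} (h₁ : (v, f) ∈ S.Φ) (h₂ : (w, g) ∈ S.Φ)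
    (ha : S.B w f ≠ 0) (hb : S.B v g = 0) : (v, g) ∈ S.Φ := by
  have h := S.move (S.B w f)⁻¹ h₁ h₂
  rw [inv_mul_cancel₀ ha, one_smul, hb, mul_zero, zero_smul, sub_zero] at h
  have h' := S.addL h (S.smulL (-1) h₂)
  simpa using h'

theorem smul_mem {p : V × W} (a : k) (h : p ∈ S.Φ) : a • p ∈ S.Φ :=
  S.smulR a (S.smulL a (v := p.1) (f := p.2) h)

theorem move_fst_ne_zero {v : V} {f : W} {w : V} (h : (v, f) ∈ S.Φ) (c : k) (hw : w ≠ 0) :
    w + (c * S.B w f) • v ≠ 0 := by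
  intro h0
  have h1 : S.B (w + (c * S.B w f) • v) f = 0 := by rw [h0]; simp
  rw [map_add, LinearMap.add_apply, map_smul, LinearMap.smul_apply, S.inc h, smul_zero,
    add_zero] at h1
  rw [h1, mul_zero, zero_smul, add_zero] at h0
  exact hw h0

theorem move_nz {v : V} {f : W} {w : V} {g : W} (c : k) (h₁ : (v, f) ∈ S.Φ) (h₂ : S.NZ (w, g)) :
    S.NZ (w + (c * S.B w f) • v, g - (c * S.B v g) • f) := by
  refine ⟨S.move c h₁ h₂.1, S.move_fst_ne_zero h₁ c h₂.2.1, ?_⟩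
  intro h0
  have := S.flip.move_fst_ne_zero (v := f) (f := v) (w := g) h₁ (-c) h₂.2.2
  apply this
  rw [flip_B, neg_mul, neg_smul, ← sub_eq_add_neg]
  exact h0

theorem conn_same_left {v : V} {f g : W} (hf : S.NZ (v, f)) (hg : S.NZ (v, g)) :
    S.Conn (v, f) (v, g) := by
  obtain ⟨z₀, z₁, hz, hz1, hz0⟩ := S.partner hf.1 hf.2.1 hf.2.2
  obtain ⟨u, h, hy, hy1, hy0⟩ := S.partner hg.1 hg.2.1 hg.2.2
  have ne_left : ∀ {a : V} {b : W}, S.B a b ≠ 0 → a ≠ 0 ∧ b ≠ 0 := by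
    intro a b hab
    constructor <;> rintro rfl <;> simp at hab
  have hzn : S.NZ (z₀, z₁) := ⟨hz, (ne_left hz0).1, (ne_left hz1).2⟩
  have hyn : S.NZ (u, h) := ⟨hy, (ne_left hy0).1, (ne_left hy1).2⟩
  by_cases huf : S.B u f = 0
  swap
  · exact (Relation.ReflTransGen.single ⟨hf, hyn, hy1, huf⟩).tail ⟨hyn, hg, hy0, hy1⟩
  by_cases hzg : S.B z₀ g = 0
  swap
  · exact (Relation.ReflTransGen.single ⟨hf, hzn, hz1, hz0⟩).tail ⟨hzn, hg, hzg, hz1⟩
  have hr : (z₀, g) ∈ S.Φ := S.rule hz hg.1 hz1 hzg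
  set c := (S.B u g)⁻¹
  have hnz := S.move_nz c hr hyn
  rw [inv_mul_cancel₀ hy0, one_smul] at hnz
  have h1 : S.B (u + z₀) f ≠ 0 := by
    rw [map_add, LinearMap.add_apply, huf, zero_add]; exact hz0
  have h2 : S.B (u + z₀) g ≠ 0 := by
    rw [map_add, LinearMap.add_apply, hzg, add_zero]; exact hy0
  have h3 : S.B v (h - (c * S.B z₀ h) • g) ≠ 0 := by
    rw [map_sub, map_smul, S.inc hg.1, smul_zero, sub_zero]; exact hy1
  exact (Relation.ReflTransGen.single ⟨hf, hnz, h3, h1⟩).tail ⟨hnz, hg, h2, h3⟩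

theorem conn_same_right {v w : V} {f : W} (hv : S.NZ (v, f)) (hw : S.NZ (w, f)) :
    S.Conn (v, f) (w, f) :=
  S.conn_of_flip (S.flip.conn_same_left (v := f) (f := v) (g := w) ⟨hv.1, hv.2.2, hv.2.1⟩
    ⟨hw.1, hw.2.2, hw.2.1⟩)

theorem conn_of_ne {p q : V × W} (hp : S.NZ p) (hq : S.NZ q) (h : S.B q.1 p.2 ≠ 0) :
    S.Conn p q := by
  by_cases h' : S.B p.1 q.2 = 0
  · have hm : S.NZ (p.1, q.2) := ⟨S.rule hp.1 hq.1 h h', hp.2.1, hq.2.2⟩
    exact S.conn_trans (S.conn_same_left (v := p.1) (f := p.2) (g := q.2) hp hm)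
      (S.conn_same_right (v := p.1) (w := q.1) (f := q.2) hm hq)
  · exact Relation.ReflTransGen.single ⟨hp, hq, h', h⟩

theorem perp_of_not_conn {p q : V × W} (hp : S.NZ p) (hq : S.NZ q) (h : ¬S.Conn p q) :
    S.B p.1 q.2 = 0 ∧ S.B q.1 p.2 = 0 := by
  constructor
  · by_contra h'
    exact h (S.conn_symm (S.conn_of_ne hq hp h'))
  · by_contra h'
    exact h (S.conn_of_ne hp hq h')

/-- Perfectly paired subspaces. -/
def Perf (U : Submodule k V) (U' : Submodule k W) : Prop :=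
  (∀ u ∈ U, (∀ f ∈ U', S.B u f = 0) → u = 0) ∧ ∀ f ∈ U', (∀ u ∈ U, S.B u f = 0) → f = 0

variable {S}

theorem Perf.flip {U : Submodule k V} {U' : Submodule k W} (h : S.Perf U U') :
    S.flip.Perf U' U :=
  ⟨h.2, h.1⟩

theorem Perf.finrank_eq [FiniteDimensional k V] [FiniteDimensional k W] {U : Submodule k V}
    {U' : Submodule k W} (h : S.Perf U U') : finrank k U = finrank k U' := by
  let g : U →ₗ[k] Dual k U' := LinearMap.compl₁₂ S.B U.subtype U'.subtype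
  have hg : Function.Injective g := by
    rw [injective_iff_map_eq_zero]
    intro u hu
    exact Subtype.ext (h.1 u u.2 fun f hf => LinearMap.congr_fun hu ⟨f, hf⟩)
  let g' : U' →ₗ[k] Dual k U := (LinearMap.compl₁₂ S.B U.subtype U'.subtype).flip
  have hg' : Function.Injective g' := by
    rw [injective_iff_map_eq_zero]
    intro u hu
    exact Subtype.ext (h.2 u u.2 fun f hf => LinearMap.congr_fun hu ⟨f, hf⟩)
  have h1 := LinearMap.finrank_le_finrank_of_injective hg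
  have h2 := LinearMap.finrank_le_finrank_of_injective hg'
  rw [Subspace.dual_finrank_eq] at h1 h2
  omega

theorem Perf.dual_surj [FiniteDimensional k V] [FiniteDimensional k W] {U : Submodule k V}
    {U' : Submodule k W} (h : S.Perf U U') (ℓ : Dual k U) :
    ∃ f ∈ U', ∀ u : U, S.B u f = ℓ u := by
  let g' : U' →ₗ[k] Dual k U := (LinearMap.compl₁₂ S.B U.subtype U'.subtype).flip
  have hg' : Function.Injective g' := by
    rw [injective_iff_map_eq_zero]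
    intro u hu
    exact Subtype.ext (h.2 u u.2 fun f hf => LinearMap.congr_fun hu ⟨f, hf⟩)
  have : finrank k U' = finrank k (Dual k U) := by
    rw [Subspace.dual_finrank_eq, h.finrank_eq]
  obtain ⟨f, hf⟩ := (LinearMap.injective_iff_surjective_of_finrank_eq_finrank this).mp hg' ℓ
  exact ⟨f, f.2, fun u => LinearMap.congr_fun hf u⟩

/-- The component of a vector in a paired subspace. -/
theorem Perf.repr [FiniteDimensional k V] [FiniteDimensional k W] {U : Submodule k V}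
    {U' : Submodule k W} (h : S.Perf U U') (w : V) :
    ∃ u ∈ U, ∀ f ∈ U', S.B u f = S.B w f := by
  obtain ⟨u, hu, hu'⟩ := h.flip.dual_surj ((S.B w).comp U'.subtype)
  exact ⟨u, hu, fun f hf => hu' ⟨f, hf⟩⟩

theorem Perf.repr' [FiniteDimensional k V] [FiniteDimensional k W] {U : Submodule k V}
    {U' : Submodule k W} (h : S.Perf U U') (g : W) :
    ∃ f ∈ U', ∀ u ∈ U, S.B u f = S.B u g := by
  obtain ⟨u, hu, hu'⟩ := h.flip.repr g
  exact ⟨u, hu, hu'⟩

end PairSys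

end Cfsg.Agent.TransvGen
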