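import Mathlib
import Cfsg.Prelude.Def_Solvable
import Cfsg.Agent.Lib.Involution.BaerSuzuki
import Cfsg.Agent.TransvGen.Basic
import Cfsg.Agent.TransvGen.Pairs

/-!
# The pair system of a transvection group
-/

set_option autoImplicit false

namespace Cfsg.Agent.TransvGen

open Module

variable {p : ℕ} [Fact p.Prime] {V : Type*} [AddCommGroup V] [Module (ZMod p) V]

/-- A linear automorphism unipotent of class at most three has order dividing `p` (`p` odd). -/
theorem pow_eq_one_of_three_step (hp : Odd p) (e : V ≃ₗ[ZMod p] V)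
    (h : ∀ x, e (e (e x - x) - (e x - x)) = e (e x - x) - (e x - x)) : e ^ p = 1 := by
  have key : ∀ (n : ℕ) (x : V),
      (e ^ n) x = x + n • (e x - x) + n.choose 2 • (e (e x - x) - (e x - x)) := by
    intro n x
    induction n with
    | zero => simp
    | succ n ih =>
      rw [pow_succ', LinearEquiv.mul_apply, ih, map_add, map_add, map_nsmul, map_nsmul, h,
        Nat.choose_succ_succ, Nat.choose_one_right, succ_nsmul, add_nsmul]
      simp only [nsmul_sub, nsmul_add]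
      abel
  have hz : ∀ m : ℕ, p ∣ m → ∀ y : V, m • y = 0 := by
    intro m hm y
    rw [← Nat.cast_smul_eq_nsmul (ZMod p), (ZMod.natCast_eq_zero_iff m p).mpr hm, zero_smul]
  have h2 : p ∣ p.choose 2 := by
    refine (Fact.out : p.Prime).dvd_choose_self two_ne_zero ?_
    have := (Fact.out : p.Prime).two_le
    obtain ⟨m, rfl⟩ := hp
    omega
  ext x
  rw [key, hz p dvd_rfl, hz _ h2, add_zero, add_zero]
  rfl

/-- The stabilizer of the chain `0 ≤ ⟨v⟩ ≤ ⟨v, w⟩ ≤ V`, acting trivially on the factors. -/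
def flagGroup (v w : V) : Subgroup (V ≃ₗ[ZMod p] V) where
  carrier := {e | e v = v ∧ e w - w ∈ Submodule.span (ZMod p) {v} ∧
    ∀ x, e x - x ∈ Submodule.span (ZMod p) {v, w}}
  one_mem' := by simp
  mul_mem' := by
    rintro a b ⟨ha1, ha2, ha3⟩ ⟨hb1, hb2, hb3⟩
    refine ⟨?_, ?_, fun x => ?_⟩
    · rw [LinearEquiv.mul_apply, hb1, ha1]
    · obtain ⟨c, hc⟩ := Submodule.mem_span_singleton.mp hb2
      have : (a * b) w - w = c • v + (a w - w) := by
        rw [LinearEquiv.mul_apply, ← sub_add_cancel (b w) w, ← hc, map_add, map_smul, ha1]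
        abel
      rw [this]
      exact Submodule.add_mem _ (Submodule.smul_mem _ _ (Submodule.mem_span_singleton_self v)) ha2
    · have hs : (a * b) x - x = a (b x) - b x + (b x - x) := by
        rw [LinearEquiv.mul_apply]; abel
      rw [hs]
      exact Submodule.add_mem _ (ha3 _) (hb3 x)
  inv_mem' := by
    rintro a ⟨ha1, ha2, ha3⟩
    have e1 : a⁻¹ v = v := by
      conv_lhs => rw [← ha1]
      simp [LinearEquiv.coe_inv]
    refine ⟨e1, ?_, fun x => ?_⟩
    · obtain ⟨c, hc⟩ := Submodule.mem_span_singleton.mp ha2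
      refine Submodule.mem_span_singleton.mpr ⟨-c, ?_⟩
      apply a.injective
      rw [map_smul, ha1, map_sub, ← LinearEquiv.mul_apply, mul_inv_cancel, neg_smul, hc]
      exact neg_sub _ _
    · have h := Submodule.neg_mem _ (ha3 (a⁻¹ x))
      rwa [← LinearEquiv.mul_apply, mul_inv_cancel, neg_sub] at h

theorem flagGroup_pow (hp : Odd p) {v w : V} {e : V ≃ₗ[ZMod p] V}
    (he : e ∈ flagGroup v w) : e ^ p = 1 := by
  obtain ⟨h1, h2, h3⟩ := he
  refine pow_eq_one_of_three_step hp e fun x => ?_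
  obtain ⟨a, b, hab⟩ := Submodule.mem_span_pair.mp (h3 x)
  obtain ⟨c, hc⟩ := Submodule.mem_span_singleton.mp h2
  have : e (e x - x) - (e x - x) = (b * c) • v := by
    rw [← hab, map_add, map_smul, map_smul, h1, mul_smul, hc, smul_sub]
    abel
  rw [this, map_smul, h1]

theorem tv_mem_flagGroup_left {v w : V} {f : Dual (ZMod p) V} (hv : f v = 0) :
    tv v f ∈ flagGroup v w := by
  refine ⟨by simp [tv_apply hv, hv], ?_, fun x => ?_⟩
  · rw [tv_apply hv, add_sub_cancel_left]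
    exact Submodule.smul_mem _ _ (Submodule.mem_span_singleton_self v)
  · rw [tv_apply hv, add_sub_cancel_left]
    exact Submodule.smul_mem _ _ (Submodule.subset_span (by simp))

theorem tv_mem_flagGroup_right {v w : V} {g : Dual (ZMod p) V} (hw : g w = 0) (hv : g v = 0) :
    tv w g ∈ flagGroup v w := by
  refine ⟨by simp [tv_apply hw, hv], by simp [tv_apply hw, hw], fun x => ?_⟩
  rw [tv_apply hw, add_sub_cancel_left]
  exact Submodule.smul_mem _ _ (Submodule.subset_span (by simp))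

variable (H : Subgroup (V ≃ₗ[ZMod p] V))

/-- The pairs `(v, f)` of transvections of `H`. -/
def pairSet : Set (V × Dual (ZMod p) V) :=
  {q | q.2 q.1 = 0 ∧ tv q.1 q.2 ∈ H}

variable {H}

theorem conj_mem_pairSet {e : V ≃ₗ[ZMod p] V} (he : e ∈ H) {v : V} {f : Dual (ZMod p) V}
    (h : (v, f) ∈ pairSet H) : (e v, f.comp e.symm.toLinearMap) ∈ pairSet H := by
  refine ⟨by simpa using h.1, ?_⟩
  show tv (e v) (f.comp e.symm.toLinearMap) ∈ H
  rw [← tv_conj e h.1]
  exact H.mul_mem (H.mul_mem he h.2) (H.inv_mem he)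

theorem comp_symm_ne_zero {e : V ≃ₗ[ZMod p] V} {f : Dual (ZMod p) V} (hf : f ≠ 0) :
    f.comp e.symm.toLinearMap ≠ 0 := by
  intro h
  apply hf
  ext x
  simpa using LinearMap.congr_fun h (e x)

theorem eq_one_of_mem_normal_pgroup (hOp : Cfsg.pCore p ↥H = ⊥) {N : Subgroup ↥H}
    (hN : N.Normal) (hNp : IsPGroup p N) {x : ↥H} (hx : x ∈ N) : x = 1 := by
  have hle : N ≤ Cfsg.pCore p ↥H := le_sSup ⟨hN, hNp⟩
  rw [hOp] at hle
  exact Subgroup.mem_bot.mp (hle hx)

theorem tv_ne_one {v : V} {f : Dual (ZMod p) V} (h : f v = 0) (hv : v ≠ 0) (hf : f ≠ 0) :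
    tv v f ≠ 1 := by
  intro he
  obtain ⟨x, hx⟩ : ∃ x, f x ≠ 0 := by
    by_contra! hc
    exact hf (LinearMap.ext hc)
  have := LinearEquiv.congr_fun he x
  rw [tv_apply h] at this
  exact smul_ne_zero hx hv (by simpa using this)

theorem exists_partner [Finite V] (hp : Odd p) (hOp : Cfsg.pCore p ↥H = ⊥) {v : V}
    {f : Dual (ZMod p) V} (h : (v, f) ∈ pairSet H) (hv : v ≠ 0) (hf : f ≠ 0) :
    ∃ w g, (w, g) ∈ pairSet H ∧ g v ≠ 0 ∧ f w ≠ 0 := by
  by_contra! hc
  haveI : Finite (V ≃ₗ[ZMod p] V) :=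
    Finite.of_injective (fun e : V ≃ₗ[ZMod p] V => (e : V → V)) DFunLike.coe_injective
  set t : ↥H := ⟨tv v f, h.2⟩
  obtain ⟨N, hN, hNp, htN⟩ := Cfsg.Agent.Involution.baerSuzuki (p := p) t (fun a => by
    set w := (a : V ≃ₗ[ZMod p] V) v
    set g := f.comp (a : V ≃ₗ[ZMod p] V).symm.toLinearMap
    have hwg : (w, g) ∈ pairSet H := conj_mem_pairSet a.2 h
    have hu : ((a * t * a⁻¹ : ↥H) : V ≃ₗ[ZMod p] V) = tv w g := by
      simp [t, w, g, tv_conj _ h.1]
    obtain ⟨X, h1, h2, hX⟩ : ∃ X : Subgroup (V ≃ₗ[ZMod p] V), tv v f ∈ X ∧ tv w g ∈ X ∧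
        ∀ e ∈ X, e ^ p = 1 := by
      by_cases hgv : g v = 0
      · exact ⟨flagGroup v w, tv_mem_flagGroup_left h.1, tv_mem_flagGroup_right hwg.1 hgv,
          fun e he => flagGroup_pow hp he⟩
      · exact ⟨flagGroup w v, tv_mem_flagGroup_right h.1 (hc w g hwg hgv),
          tv_mem_flagGroup_left hwg.1, fun e he => flagGroup_pow hp he⟩
    have hle : Subgroup.closure ({t, a * t * a⁻¹} : Set ↥H) ≤ X.subgroupOf H := by
      refine (Subgroup.closure_le _).mpr ?_
      rintro x (rfl | rfl)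
      · exact h1
      · show ((a * t * a⁻¹ : ↥H) : V ≃ₗ[ZMod p] V) ∈ X
        rw [hu]; exact h2
    intro x
    refine ⟨1, Subtype.ext (Subtype.ext ?_)⟩
    simpa using hX _ (hle x.2))
  have := eq_one_of_mem_normal_pgroup hOp hN hNp htN
  exact tv_ne_one h.1 hv hf (congrArg (Subtype.val) this)

/-- The span of all points. -/
def pointSpan (H : Subgroup (V ≃ₗ[ZMod p] V)) : Submodule (ZMod p) V :=
  Submodule.span (ZMod p) {w | ∃ g, (w, g) ∈ pairSet H ∧ g ≠ 0}

/-- The part of the span of the points killed by all axes. -/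
def pointRad (H : Subgroup (V ≃ₗ[ZMod p] V)) : Submodule (ZMod p) V where
  carrier := {x | x ∈ pointSpan H ∧ ∀ w g, (w, g) ∈ pairSet H → w ≠ 0 → g x = 0}
  zero_mem' := ⟨Submodule.zero_mem _, fun _ g _ _ => map_zero g⟩
  add_mem' := fun {a b} ha hb => ⟨Submodule.add_mem _ ha.1 hb.1, fun w g h1 h2 => by
    rw [map_add, ha.2 w g h1 h2, hb.2 w g h1 h2, add_zero]⟩
  smul_mem' := fun c x hx => ⟨Submodule.smul_mem _ c hx.1, fun w g h1 h2 => by
    rw [map_smul, hx.2 w g h1 h2, smul_zero]⟩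

theorem apply_mem_pointSpan {e : V ≃ₗ[ZMod p] V} (he : e ∈ H) {x : V} (hx : x ∈ pointSpan H) :
    e x ∈ pointSpan H := by
  unfold pointSpan at hx ⊢
  induction hx using Submodule.span_induction with
  | mem x hx =>
    obtain ⟨g, hg, hg0⟩ := hx
    exact Submodule.subset_span ⟨_, conj_mem_pairSet he hg, comp_symm_ne_zero hg0⟩
  | zero => simp
  | add a b _ _ ha hb => rw [map_add]; exact Submodule.add_mem _ ha hb
  | smul c a _ ha => rw [map_smul]; exact Submodule.smul_mem _ c ha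

theorem apply_mem_pointRad {e : V ≃ₗ[ZMod p] V} (he : e ∈ H) {x : V} (hx : x ∈ pointRad H) :
    e x ∈ pointRad H := by
  refine ⟨apply_mem_pointSpan he hx.1, fun w g hwg hw => ?_⟩
  have h' := conj_mem_pairSet (H.inv_mem he) hwg
  have := hx.2 _ _ h' (by
    intro h0
    exact hw (e⁻¹.map_eq_zero_iff.mp h0))
  exact this

theorem exists_congr [Finite V] (hp : Odd p) (hOp : Cfsg.pCore p ↥H = ⊥) {v v' : V}
    {f f' : Dual (ZMod p) V} (h : (v, f) ∈ pairSet H) (h' : (v', f') ∈ pairSet H) (hv : v ≠ 0)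
    (hf : f ≠ 0) (hv' : v' ≠ 0) (hf' : f' ≠ 0)
    (hc : ∀ w g, (w, g) ∈ pairSet H → w ≠ 0 → g ≠ 0 → g (v - v') = 0 ∧ (f - f') w = 0) :
    ∃ c : ZMod p, c ≠ 0 ∧ v' = c • v ∧ f = c • f' := by
  let P : Submodule (ZMod p) V := pointSpan H
  let R : Submodule (ZMod p) V := pointRad H
  let K : Subgroup ↥H :=
    { carrier := {e | (∀ x, (e : V ≃ₗ[ZMod p] V) x - x ∈ P) ∧
        (∀ x ∈ P, (e : V ≃ₗ[ZMod p] V) x - x ∈ R) ∧ ∀ x ∈ R, (e : V ≃ₗ[ZMod p] V) x = x}
      one_mem' := by simp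
      mul_mem' := by
        rintro a b ⟨a1, a2, a3⟩ ⟨b1, b2, b3⟩
        have hs : ∀ x, ((a * b : ↥H) : V ≃ₗ[ZMod p] V) x - x =
            ((a : V ≃ₗ[ZMod p] V) ((b : V ≃ₗ[ZMod p] V) x) - (b : V ≃ₗ[ZMod p] V) x) +
              ((b : V ≃ₗ[ZMod p] V) x - x) := fun x => by simp
        exact ⟨fun x => by rw [hs]; exact P.add_mem (a1 _) (b1 x),
          fun x hx => by rw [hs]; exact R.add_mem (a2 _ (apply_mem_pointSpan b.2 hx)) (b2 x hx),
          fun x hx => by simp [a3 _ hx, b3 x hx]⟩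
      inv_mem' := by
        rintro a ⟨a1, a2, a3⟩
        have e' : ∀ x, ((a⁻¹ : ↥H) : V ≃ₗ[ZMod p] V) x - x =
            -((a : V ≃ₗ[ZMod p] V) (((a⁻¹ : ↥H) : V ≃ₗ[ZMod p] V) x) -
              ((a⁻¹ : ↥H) : V ≃ₗ[ZMod p] V) x) := fun x => by
          simp [LinearEquiv.coe_inv]
        exact ⟨fun x => by rw [e']; exact P.neg_mem (a1 _),
          fun x hx => by rw [e']; exact R.neg_mem (a2 _ (apply_mem_pointSpan (a⁻¹).2 hx)),
          fun x hx => by
            conv_lhs => rw [← a3 x hx]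
            simp [LinearEquiv.coe_inv]⟩ }
  have hK : K.Normal := by
    refine ⟨fun e he a => ?_⟩
    obtain ⟨e1, e2, e3⟩ := he
    have hs : ∀ x, ((a * e * a⁻¹ : ↥H) : V ≃ₗ[ZMod p] V) x - x = (a : V ≃ₗ[ZMod p] V)
        ((e : V ≃ₗ[ZMod p] V) (((a⁻¹ : ↥H) : V ≃ₗ[ZMod p] V) x) -
          ((a⁻¹ : ↥H) : V ≃ₗ[ZMod p] V) x) := fun x => by
      simp [LinearEquiv.coe_inv]
    refine ⟨fun x => by rw [hs]; exact apply_mem_pointSpan a.2 (e1 _),
      fun x hx => by
        rw [hs]; exact apply_mem_pointRad a.2 (e2 _ (apply_mem_pointSpan (a⁻¹).2 hx)),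
      fun x hx => ?_⟩
    have := e3 _ (apply_mem_pointRad (a⁻¹).2 hx)
    rw [← sub_eq_zero, hs, this]
    simp
  have hKp : IsPGroup p K := by
    intro e
    refine ⟨1, ?_⟩
    obtain ⟨e1, e2, e3⟩ := e.2
    have := pow_eq_one_of_three_step hp ((e : ↥H) : V ≃ₗ[ZMod p] V)
      fun x => e3 _ (e2 _ (e1 x))
    exact Subtype.ext (Subtype.ext (by simpa using this))
  have hvP : v ∈ P := Submodule.subset_span ⟨f, h, hf⟩
  have hv'P : v' ∈ P := Submodule.subset_span ⟨f', h', hf'⟩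
  have hff : ∀ x ∈ P, f' x = f x := by
    intro x hx
    refine (Submodule.span_le (p := LinearMap.eqLocus f' f)).mpr ?_ hx
    rintro w ⟨g, hwg, hg⟩
    by_cases hw : w = 0
    · simp [hw]
    have := (hc w g hwg hw hg).2
    rw [LinearMap.sub_apply, sub_eq_zero] at this
    exact this.symm
  have hfv' : f v' = 0 := by
    have := (hc v f h hv hf).1
    rwa [map_sub, h.1, zero_sub, neg_eq_zero] at this
  set d : ↥H := (⟨tv v f, h.2⟩ : ↥H)⁻¹ * ⟨tv v' f', h'.2⟩ with hddef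
  have hfnv : f (-v) = 0 := by rw [map_neg, h.1, neg_zero]
  have hd : ∀ x, (d : V ≃ₗ[ZMod p] V) x = x + f' x • v' - f x • v := fun x => by
    simp only [hddef, Subgroup.coe_mul, InvMemClass.coe_inv, LinearEquiv.mul_apply, tv_inv h.1,
      tv_apply h'.1, tv_apply hfnv, map_add, map_smul, hfv', smul_zero, add_zero, smul_neg]
    abel
  have hdK : d ∈ K := by
    refine ⟨fun x => ?_, fun x hx => ?_, fun x hx => ?_⟩
    · rw [hd, add_sub_assoc, add_sub_cancel_left]
      exact P.sub_mem (P.smul_mem _ hv'P) (P.smul_mem _ hvP)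
    · rw [hd, hff x hx, add_sub_assoc, add_sub_cancel_left, ← smul_sub]
      refine R.smul_mem _ ⟨P.sub_mem hv'P hvP, fun w g hwg hw => ?_⟩
      by_cases hg : g = 0
      · rw [hg, LinearMap.zero_apply]
      have := (hc w g hwg hw hg).1
      rw [← neg_sub v v', map_neg, this, neg_zero]
    · rw [hd, hx.2 v f h hv, hx.2 v' f' h' hv']
      simp
  have hd1 := eq_one_of_mem_normal_pgroup hOp hK hKp hdK
  have heq : ∀ x, f' x • v' = f x • v := by
    intro x
    have := hd x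
    rw [hd1] at this
    simp only [OneMemClass.coe_one] at this
    rw [add_sub_assoc, show (1 : V ≃ₗ[ZMod p] V) x = x from rfl] at this
    exact sub_eq_zero.mp (add_eq_left.mp this.symm)
  obtain ⟨x₀, hx₀⟩ : ∃ x, f' x ≠ 0 := by
    by_contra! hne
    exact hf' (LinearMap.ext hne)
  have hv'eq : v' = ((f' x₀)⁻¹ * f x₀) • v := by
    rw [mul_smul, ← heq x₀, inv_smul_smul₀ hx₀]
  refine ⟨(f' x₀)⁻¹ * f x₀, ?_, hv'eq, LinearMap.ext fun x => ?_⟩
  · intro h0
    rw [h0, zero_smul] at hv'eq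
    exact hv' hv'eq
  · have := heq x
    rw [hv'eq, smul_smul] at this
    have := smul_left_injective (ZMod p) hv this
    simp only [LinearMap.smul_apply, smul_eq_mul]
    rw [← this]; ring

/-- The pair system of a transvection group without nontrivial normal `p`-subgroups. -/
def pairSys [Finite V] (hp : Odd p) (H : Subgroup (V ≃ₗ[ZMod p] V))
    (hOp : Cfsg.pCore p ↥H = ⊥) : PairSys (ZMod p) V (Dual (ZMod p) V) where
  B := Dual.eval (ZMod p) V
  Φ := pairSet H
  inc h := h.1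
  zeroL f := ⟨map_zero f, by rw [tv_zero_left]; exact H.one_mem⟩
  zeroR v := ⟨rfl, by rw [tv_zero_right]; exact H.one_mem⟩
  smulL {v f} c h := by
    refine ⟨by simp [show f v = 0 from h.1], ?_⟩
    show tv (c • v) f ∈ H
    rw [← ZMod.natCast_zmod_val c, ← tv_pow h.1]
    exact H.pow_mem h.2 _
  smulR {v f} c h := by
    refine ⟨by simp [show f v = 0 from h.1], ?_⟩
    show tv v (c • f) ∈ H
    rw [← tv_smul_eq h.1 c, ← ZMod.natCast_zmod_val c, ← tv_pow h.1]
    exact H.pow_mem h.2 _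
  addL {v w f} h₁ h₂ := by
    refine ⟨by simp [show f v = 0 from h₁.1, show f w = 0 from h₂.1], ?_⟩
    show tv (v + w) f ∈ H
    rw [← tv_add_left h₁.1 h₂.1]
    exact H.mul_mem h₁.2 h₂.2
  addR {v f g} h₁ h₂ := by
    refine ⟨by simp [show f v = 0 from h₁.1, show g v = 0 from h₂.1], ?_⟩
    show tv v (f + g) ∈ H
    rw [← tv_add_right h₁.1 h₂.1]
    exact H.mul_mem h₁.2 h₂.2
  move {v f w g} c h₁ h₂ := by
    have hcv : f (c • v) = 0 := by simp [show f v = 0 from h₁.1]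
    have he : tv (c • v) f ∈ H := by
      rw [← ZMod.natCast_zmod_val c, ← tv_pow h₁.1]
      exact H.pow_mem h₁.2 _
    convert conj_mem_pairSet he h₂ using 1
    refine Prod.ext ?_ (LinearMap.ext fun x => ?_)
    · simp [tv_apply hcv, smul_smul, mul_comm]
    · have hsymm : (tv (c • v) f).symm x = x + f x • -(c • v) := by
        show (tv (c • v) f)⁻¹ x = _
        rw [tv_inv hcv, tv_apply (by rw [map_neg, hcv, neg_zero])]
      simp [hsymm]
      ring
  partner h hv hf := exists_partner hp hOp h hv hf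
  congr h h' hv hf hv' hf' hc := exists_congr hp hOp h h' hv hf hv' hf' hc

end Cfsg.Agent.TransvGen
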