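import Mathlib
import Cfsg.Agent.TransvGen.Pairs

/-!
# Special linear blocks
-/

set_option autoImplicit false

namespace Cfsg.Agent.TransvGen.PairSys

open Module

variable {k V W : Type*} [Field k] [AddCommGroup V] [Module k V] [AddCommGroup W]
    [Module k W] (S : PairSys k V W)

/-- A special linear block: all incident pairs of two paired subspaces occur. -/
def IsSL (U : Submodule k V) (U' : Submodule k W) : Prop :=
  S.Perf U U' ∧ ∀ u ∈ U, ∀ f ∈ U', S.B u f = 0 → (u, f) ∈ S.Φ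

variable {S}

theorem IsSL.flip {U : Submodule k V} {U' : Submodule k W} (h : S.IsSL U U') :
    S.flip.IsSL U' U :=
  ⟨h.1.flip, fun f hf u hu e => h.2 u hu f hf e⟩

theorem IsSL.of_flip {U : Submodule k V} {U' : Submodule k W} (h : S.flip.IsSL U' U) :
    S.IsSL U U' :=
  ⟨⟨h.1.2, h.1.1⟩, fun u hu f hf e => h.2 f hf u hu e⟩

theorem exists_notMem_span {U : Submodule k V} (h : 2 ≤ finrank k U) (u : V) :
    ∃ x ∈ U, x ∉ Submodule.span k ({u} : Set V) := by
  by_contra! hc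
  have h1 := Submodule.finrank_mono (R := k) (show U ≤ Submodule.span k ({u} : Set V) from hc)
  have h2 := finrank_span_le_card (R := k) ({u} : Set V)
  simp at h2
  omega

variable [FiniteDimensional k V] [FiniteDimensional k W]

theorem Perf.sep {U : Submodule k V} {U' : Submodule k W} (h : S.Perf U U') {x u : V}
    (hx : x ∈ U) (hu : u ∈ U) (hne : u ∉ Submodule.span k ({x} : Set V)) :
    ∃ f ∈ U', S.B x f = 0 ∧ S.B u f ≠ 0 := by
  obtain ⟨ℓ, hℓu, hℓ⟩ := Submodule.exists_dual_map_eq_bot_of_notMem hne inferInstance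
  have hℓx : ℓ x = 0 := by
    have : ℓ x ∈ Submodule.map ℓ (Submodule.span k ({x} : Set V)) :=
      Submodule.mem_map_of_mem (Submodule.mem_span_singleton_self x)
    rwa [hℓ, Submodule.mem_bot] at this
  obtain ⟨f, hf, hf'⟩ := h.dual_surj (ℓ.comp U.subtype)
  exact ⟨f, hf, by simpa [hℓx] using hf' ⟨x, hx⟩, by simpa using (hf' ⟨u, hu⟩).trans_ne hℓu⟩

theorem IsSL.exists_pair {U : Submodule k V} {U' : Submodule k W} (h : S.IsSL U U')
    (h2 : 2 ≤ finrank k U) {u : V} (hu : u ∈ U) (hu0 : u ≠ 0) :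
    ∃ f ∈ U', S.NZ (u, f) := by
  obtain ⟨x, hx, hxu⟩ := exists_notMem_span h2 u
  obtain ⟨f, hf, hf0, hf1⟩ := h.1.sep hu hx hxu
  exact ⟨f, hf, h.2 u hu f hf hf0, hu0, fun e => hf1 (by rw [show f = 0 from e, map_zero])⟩

omit [FiniteDimensional k V] [FiniteDimensional k W] in
theorem IsSL.conn {U : Submodule k V} {U' : Submodule k W} (h : S.IsSL U U') {p q : V × W}
    (hp : S.NZ p) (hq : S.NZ q) (hp2 : p.2 ∈ U') (hq1 : q.1 ∈ U) : S.Conn p q := by
  by_cases he : S.B q.1 p.2 = 0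
  · have hm : S.NZ (q.1, p.2) := ⟨h.2 _ hq1 _ hp2 he, hq.2.1, hp.2.2⟩
    exact S.conn_trans (S.conn_same_right (v := p.1) (w := q.1) (f := p.2) hp hm)
      (S.conn_same_left (v := q.1) (f := p.2) (g := q.2) hm hq)
  · exact S.conn_of_ne hp hq he

/-- A pair `(x, s)` with `s` annihilating `U` spreads over `U`. -/
theorem IsSL.spread {U : Submodule k V} {U' : Submodule k W} (h : S.IsSL U U') {x : V} {s : W}
    (hx : x ∈ U) (hx0 : x ≠ 0) (hxs : (x, s) ∈ S.Φ) (hs : ∀ u ∈ U, S.B u s = 0) :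
    ∀ y ∈ U, (y, s) ∈ S.Φ := by
  intro y hy
  by_cases hyx : y ∈ Submodule.span k ({x} : Set V)
  · obtain ⟨c, rfl⟩ := Submodule.mem_span_singleton.mp hyx
    exact S.smulL c hxs
  have hxy : x ∉ Submodule.span k ({y} : Set V) := by
    intro hm
    obtain ⟨c, hc⟩ := Submodule.mem_span_singleton.mp hm
    have hc0 : c ≠ 0 := by rintro rfl; exact hx0 (by rw [← hc, zero_smul])
    exact hyx (Submodule.mem_span_singleton.mpr ⟨c⁻¹, by rw [← hc, inv_smul_smul₀ hc0]⟩)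
  obtain ⟨f, hf, hf0, hf1⟩ := h.1.sep hy hx hxy
  exact S.rule (h.2 y hy f hf hf0) hxs hf1 (hs y hy)

/-- Growth of a special linear block. -/
theorem IsSL.grow {U : Submodule k V} {U' : Submodule k W} (h : S.IsSL U U')
    (h2 : 2 ≤ finrank k U) {r : V} (hr0 : r ≠ 0) (hr : ∀ f ∈ U', S.B r f = 0)
    (hrk : ∀ f ∈ U', (r, f) ∈ S.Φ) :
    ∃ U₁ U₁', S.IsSL U₁ U₁' ∧ U ≤ U₁ ∧ U' ≤ U₁' ∧ finrank k U < finrank k U₁ := by
  obtain ⟨k₀, hk₀, hk₀0⟩ : ∃ f ∈ U', f ≠ 0 := by
    by_contra! hc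
    have hbot : U' = ⊥ := (Submodule.eq_bot_iff _).mpr hc
    have he := h.1.finrank_eq
    rw [hbot, finrank_bot] at he
    omega
  obtain ⟨w, g, hwg, hrg, hwk⟩ := S.partner (hrk k₀ hk₀) hr0 hk₀0
  obtain ⟨h₀, hh₀, hh₀'⟩ := h.1.repr' g
  have hm := S.move (S.B r g)⁻¹ (hrk h₀ hh₀) hwg
  rw [inv_mul_cancel₀ hrg, one_smul] at hm
  set w' := w + ((S.B r g)⁻¹ * S.B w h₀) • r
  set s := g - h₀ with hsdef
  have hs : ∀ u ∈ U, S.B u s = 0 := fun u hu => by rw [map_sub, hh₀' u hu, sub_self]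
  set δ := S.B r s with hδdef
  have hδ : δ ≠ 0 := by rw [hδdef, map_sub, hr h₀ hh₀, sub_zero]; exact hrg
  obtain ⟨u₀, hu₀, hu₀'⟩ := h.1.repr w'
  obtain ⟨x, hx, hxu⟩ := exists_notMem_span h2 u₀
  have hx0 : x ≠ 0 := fun e => hxu (by rw [e]; exact Submodule.zero_mem _)
  have hu0' : u₀ ∉ Submodule.span k ({x} : Set V) := by
    intro hmem
    obtain ⟨c, hc⟩ := Submodule.mem_span_singleton.mp hmem
    by_cases hc0 : c = 0
    · have h' := hu₀' k₀ hk₀
      rw [← hc, hc0, zero_smul, map_zero, LinearMap.zero_apply] at h'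
      simp only [w', map_add, LinearMap.add_apply, map_smul, LinearMap.smul_apply, hr k₀ hk₀,
        smul_zero, add_zero] at h'
      exact hwk h'.symm
    · exact hxu (Submodule.mem_span_singleton.mpr ⟨c⁻¹, by rw [← hc, inv_smul_smul₀ hc0]⟩)
  obtain ⟨f₁, hf₁, hf₁0, hf₁1⟩ := h.1.sep hx hu₀ hu0'
  have hxs : (x, s) ∈ S.Φ :=
    S.rule (h.2 x hx f₁ hf₁ hf₁0) hm (by rw [← hu₀' f₁ hf₁]; exact hf₁1) (hs x hx)
  have hall := h.spread hx hx0 hxs hs
  refine ⟨U ⊔ Submodule.span k {r}, U' ⊔ Submodule.span k {s}, ⟨⟨?_, ?_⟩, ?_⟩, le_sup_left,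
    le_sup_left, ?_⟩
  · intro v hv hv0
    obtain ⟨u, hu, _, ha, rfl⟩ := Submodule.mem_sup.mp hv
    obtain ⟨a, rfl⟩ := Submodule.mem_span_singleton.mp ha
    have hs' := hv0 s (Submodule.mem_sup_right (Submodule.mem_span_singleton_self s))
    simp only [map_add, map_smul, LinearMap.add_apply, LinearMap.smul_apply, hs u hu, zero_add,
      smul_eq_mul] at hs'
    have ha0 : a = 0 := (mul_eq_zero.mp hs').resolve_right hδ
    subst ha0
    rw [zero_smul, add_zero] at hv0 ⊢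
    exact h.1.1 u hu fun f hf => hv0 f (Submodule.mem_sup_left hf)
  · intro v hv hv0
    obtain ⟨f, hf, _, hb, rfl⟩ := Submodule.mem_sup.mp hv
    obtain ⟨b, rfl⟩ := Submodule.mem_span_singleton.mp hb
    have hr' := hv0 r (Submodule.mem_sup_right (Submodule.mem_span_singleton_self r))
    simp only [map_add, map_smul, hr f hf, zero_add, smul_eq_mul] at hr'
    have hb0 : b = 0 := (mul_eq_zero.mp hr').resolve_right hδ
    subst hb0
    rw [zero_smul, add_zero] at hv0 ⊢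
    exact h.1.2 f hf fun u hu => hv0 u (Submodule.mem_sup_left hu)
  · intro v hv v' hv' he
    obtain ⟨u, hu, _, ha, rfl⟩ := Submodule.mem_sup.mp hv
    obtain ⟨a, rfl⟩ := Submodule.mem_span_singleton.mp ha
    obtain ⟨f, hf, _, hb, rfl⟩ := Submodule.mem_sup.mp hv'
    obtain ⟨b, rfl⟩ := Submodule.mem_span_singleton.mp hb
    simp only [map_add, map_smul, LinearMap.add_apply, LinearMap.smul_apply, hs u hu, hr f hf,
      ← hδdef, smul_eq_mul, mul_zero, add_zero, zero_add] at he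
    by_cases ha0 : a = 0
    · subst ha0
      simp only [zero_mul, mul_zero, add_zero] at he
      rw [zero_smul, add_zero]
      exact S.addR (h.2 u hu f hf he) (S.smulR b (hall u hu))
    by_cases hb0 : b = 0
    · subst hb0
      simp only [zero_mul, add_zero] at he
      rw [zero_smul, add_zero]
      exact S.addL (h.2 u hu f hf he) (S.smulL a (hrk f hf))
    have h' := S.move 1 (hall ((a * δ)⁻¹ • u) (U.smul_mem _ hu)) (S.smulL a (hrk f hf))
    simp only [map_smul, LinearMap.smul_apply, ← hδdef, smul_eq_mul, one_mul, smul_smul,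
      mul_inv_cancel₀ (mul_ne_zero ha0 hδ), one_smul] at h'
    have e : (a * δ)⁻¹ * S.B u f = -b := by
      field_simp
      linear_combination he
    rw [e, neg_smul, sub_neg_eq_add, add_comm] at h'
    exact h'
  · refine Submodule.finrank_lt_finrank_of_lt (lt_of_le_of_ne le_sup_left fun e => ?_)
    have hrU : r ∈ U := by
      rw [e]; exact Submodule.mem_sup_right (Submodule.mem_span_singleton_self r)
    exact hr0 (h.1.1 r hrU hr)

/-- In a maximal special linear block the axis of a connected pair is in the block. -/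
theorem IsSL.axis_mem {U : Submodule k V} {U' : Submodule k W} (h : S.IsSL U U')
    (h3 : 3 ≤ finrank k U)
    (hmax : ∀ U₁ U₁', S.IsSL U₁ U₁' → U ≤ U₁ → U' ≤ U₁' → finrank k U₁ ≤ finrank k U)
    {w : V} {g : W} (hwg : (w, g) ∈ S.Φ) (hne : ∃ f ∈ U', S.B w f ≠ 0) : g ∈ U' := by
  obtain ⟨k₀, hk₀, hk₀ne⟩ := hne
  obtain ⟨u₀, hu₀, hu₀'⟩ := h.1.repr w
  obtain ⟨h₀, hh₀, hh₀'⟩ := h.1.repr' g
  set K := U ⊓ LinearMap.ker (S.B.flip g)
  have hK : 2 ≤ finrank k K := by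
    have h1 : finrank k ↥(U ⊔ LinearMap.ker (S.B.flip g)) + finrank k K =
        finrank k U + finrank k (LinearMap.ker (S.B.flip g)) :=
      Submodule.finrank_sup_add_finrank_inf_eq U (LinearMap.ker (S.B.flip g))
    have h2 := LinearMap.finrank_range_add_finrank_ker (S.B.flip g)
    have h3' := Submodule.finrank_le (LinearMap.range (S.B.flip g))
    rw [Module.finrank_self] at h3'
    have h4 := Submodule.finrank_le (U ⊔ LinearMap.ker (S.B.flip g))
    omega
  obtain ⟨x, hx, hxu⟩ := exists_notMem_span hK u₀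
  obtain ⟨hxU, hxg⟩ := hx
  have hxg : S.B x g = 0 := hxg
  have hx0 : x ≠ 0 := fun e => hxu (by rw [e]; exact Submodule.zero_mem _)
  have hu0' : u₀ ∉ Submodule.span k ({x} : Set V) := by
    intro hmem
    obtain ⟨c, hc⟩ := Submodule.mem_span_singleton.mp hmem
    by_cases hc0 : c = 0
    · have h' := hu₀' k₀ hk₀
      rw [← hc, hc0, zero_smul, map_zero, LinearMap.zero_apply] at h'
      exact hk₀ne h'.symm
    · exact hxu (Submodule.mem_span_singleton.mpr ⟨c⁻¹, by rw [← hc, inv_smul_smul₀ hc0]⟩)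
  obtain ⟨f₁, hf₁, hf₁0, hf₁1⟩ := h.1.sep hxU hu₀ hu0'
  have hxgΦ : (x, g) ∈ S.Φ :=
    S.rule (h.2 x hxU f₁ hf₁ hf₁0) hwg (by rw [← hu₀' f₁ hf₁]; exact hf₁1) hxg
  set s := g - h₀ with hsdef
  have hs : ∀ u ∈ U, S.B u s = 0 := fun u hu => by rw [map_sub, hh₀' u hu, sub_self]
  have hxs : (x, s) ∈ S.Φ := by
    rw [hsdef, sub_eq_add_neg]
    exact S.addR hxgΦ (h.2 x hxU _ (U'.neg_mem hh₀) (by rw [map_neg, hh₀' x hxU, hxg, neg_zero]))
  by_cases hs0 : s = 0
  · rwa [sub_eq_zero.mp hs0]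
  exfalso
  obtain ⟨U₁', U₁, hSL, hle', hle, hlt⟩ := h.flip.grow (by rw [← h.1.finrank_eq]; omega) hs0
    (fun u hu => hs u hu) (fun u hu => h.spread hxU hx0 hxs hs u hu)
  have h' := hSL.of_flip
  have := hmax U₁ U₁' h' hle hle'
  have e1 := h'.1.finrank_eq
  have e2 := h.1.finrank_eq
  omega

/-- A maximal special linear block contains its component. -/
theorem IsSL.component_mem {U : Submodule k V} {U' : Submodule k W} (h : S.IsSL U U')
    (h3 : 3 ≤ finrank k U)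
    (hmax : ∀ U₁ U₁', S.IsSL U₁ U₁' → U ≤ U₁ → U' ≤ U₁' → finrank k U₁ ≤ finrank k U)
    {p q : V × W} (hp1 : p.1 ∈ U) (hp2 : p.2 ∈ U') (hpq : S.Conn p q) :
    q.1 ∈ U ∧ q.2 ∈ U' := by
  induction hpq with
  | refl => exact ⟨hp1, hp2⟩
  | @tail b c _ hbc ih =>
    refine ⟨?_, h.axis_mem h3 hmax (w := c.1) (g := c.2) hbc.2.1.1 ⟨b.2, ih.2, hbc.2.2.2⟩⟩
    refine h.flip.axis_mem (by rw [← h.1.finrank_eq]; exact h3) ?_ (w := c.2) (g := c.1)
      hbc.2.1.1 ⟨b.1, ih.1, hbc.2.2.1⟩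
    intro U₁' U₁ hSL hle' hle
    have h' := hSL.of_flip
    have := hmax U₁ U₁' h' hle hle'
    have e1 := h'.1.finrank_eq
    have e2 := h.1.finrank_eq
    omega

end Cfsg.Agent.TransvGen.PairSys
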