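import Mathlib
import Cfsg.Agent.TransvGen.SL

/-!
# Symplectic blocks, and the structure of a component
-/

set_option autoImplicit false

namespace Cfsg.Agent.TransvGen.PairSys

open Module

variable {k V W : Type*} [Field k] [AddCommGroup V] [Module k V] [AddCommGroup W]
    [Module k W] (S : PairSys k V W)

/-- A symplectic block: the graph of an alternating isomorphism consisting of pairs. -/
def IsSp (Γ : Submodule k (V × W)) : Prop :=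
  (∀ γ ∈ Γ, γ ∈ S.Φ) ∧ ∀ γ ∈ Γ, (∀ η ∈ Γ, S.B γ.1 η.2 = 0) → γ = 0

/-- `ρ` is orthogonal to the block `Γ` on both sides. -/
def PerpTo (Γ : Submodule k (V × W)) (ρ : V × W) : Prop :=
  ∀ γ ∈ Γ, S.B ρ.1 γ.2 = 0 ∧ S.B γ.1 ρ.2 = 0

theorem comb {p q : V × W} (hp : p ∈ S.Φ) (hq : q ∈ S.Φ) (hsk : S.B q.1 p.2 = -S.B p.1 q.2)
    (hne : S.B p.1 q.2 ≠ 0) (a b : k) : a • p + b • q ∈ S.Φ := by
  by_cases hb : b = 0
  · rw [hb, zero_smul, add_zero]; exact S.smul_mem a hp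
  have hne' : S.B q.1 p.2 ≠ 0 := by rw [hsk]; exact neg_ne_zero.mpr hne
  have h := S.move (v := p.1) (f := p.2) (w := q.1) (g := q.2) (a / b / S.B q.1 p.2) hp hq
  have e1 : a / b / S.B q.1 p.2 * S.B q.1 p.2 = a / b := div_mul_cancel₀ _ hne'
  have e2 : a / b / S.B q.1 p.2 * S.B p.1 q.2 = -(a / b) := by
    rw [hsk, div_neg, neg_mul, div_mul_cancel₀ _ hne]
  rw [e1, e2, neg_smul, sub_neg_eq_add] at h
  have h' := S.smul_mem b h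
  convert h' using 1
  ext <;> simp [smul_add, smul_smul, mul_div_cancel₀ _ hb, add_comm]

/-- A transvection meeting a symplectic plane in exactly one direction gives a special linear
block of dimension three. -/
theorem jump [FiniteDimensional k V] [FiniteDimensional k W] {γ δ : V × W} (hγ : γ ∈ S.Φ)
    (hδ : δ ∈ S.Φ) (hsk : S.B δ.1 γ.2 = -S.B γ.1 δ.2) (hd : S.B γ.1 δ.2 ≠ 0) {w : V} {g : W}
    (hy : (w, g) ∈ S.Φ) (hg : g ≠ 0) (hb : S.B w γ.2 ≠ 0) (ha : S.B γ.1 g = 0) :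
    ∃ U U', S.IsSL U U' ∧ 3 ≤ finrank k U ∧ γ.1 ∈ U ∧ γ.2 ∈ U' := by
  set d := S.B γ.1 δ.2 with hddef
  have hγg : (γ.1, g) ∈ S.Φ := S.rule (v := γ.1) (f := γ.2) hγ hy hb ha
  set c := S.B δ.1 g / S.B δ.1 γ.2 with hcdef
  set s := g + (-c) • γ.2 with hsdef
  have hs1 : S.B γ.1 s = 0 := by
    simp [hsdef, ha, S.inc (v := γ.1) (f := γ.2) hγ]
  have hs2 : S.B δ.1 s = 0 := by
    have : S.B δ.1 γ.2 ≠ 0 := by rw [hsk]; exact neg_ne_zero.mpr hd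
    simp [hsdef, hcdef, div_mul_cancel₀ _ this]
  have hs0 : s ≠ 0 := by
    intro e
    have hg' : g = c • γ.2 := by
      rw [hsdef, neg_smul, ← sub_eq_add_neg, sub_eq_zero] at e; exact e
    have hi := S.inc hy
    rw [hg', map_smul, smul_eq_mul] at hi
    rw [(mul_eq_zero.mp hi).resolve_right hb, zero_smul] at hg'
    exact hg hg'
  have hγs : (γ.1, s) ∈ S.Φ := S.addR hγg (S.smulR _ (v := γ.1) (f := γ.2) hγ)
  set U := Submodule.span k ({γ.1, δ.1} : Set V) with hU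
  set U' := Submodule.span k ({γ.2, δ.2} : Set W) with hU'
  have hγ1 : γ.1 ∈ U := Submodule.subset_span (by simp)
  have hδ1 : δ.1 ∈ U := Submodule.subset_span (by simp)
  have hγ2 : γ.2 ∈ U' := Submodule.subset_span (by simp)
  have hδ2 : δ.2 ∈ U' := Submodule.subset_span (by simp)
  have hγγ := S.inc (v := γ.1) (f := γ.2) hγ
  have hδδ := S.inc (v := δ.1) (f := δ.2) hδ
  have hSL : S.IsSL U U' := by
    refine ⟨⟨?_, ?_⟩, ?_⟩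
    · intro u hu h0
      obtain ⟨a, b, rfl⟩ := Submodule.mem_span_pair.mp hu
      have e1 := h0 γ.2 hγ2
      have e2 := h0 δ.2 hδ2
      simp [hγγ, hsk, hd] at e1
      simp [hδδ, ← hddef, hd] at e2
      simp [e1, e2]
    · intro f hf h0
      obtain ⟨a, b, rfl⟩ := Submodule.mem_span_pair.mp hf
      have e1 := h0 γ.1 hγ1
      have e2 := h0 δ.1 hδ1
      simp [hγγ, ← hddef, hd] at e1
      simp [hδδ, hsk, hd] at e2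
      simp [e1, e2]
    · intro u hu f hf he
      obtain ⟨a, b, rfl⟩ := Submodule.mem_span_pair.mp hu
      obtain ⟨a', b', rfl⟩ := Submodule.mem_span_pair.mp hf
      simp only [map_add, map_smul, LinearMap.add_apply, LinearMap.smul_apply, hγγ, hδδ, hsk,
        ← hddef, smul_eq_mul, mul_zero, zero_add, add_zero] at he
      have hab : a * b' = b * a' := mul_right_cancel₀ hd (by linear_combination he)
      by_cases h0 : a = 0 ∧ b = 0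
      · rw [h0.1, h0.2, zero_smul, zero_smul, add_zero]; exact S.zeroL _
      obtain ⟨t, ht1, ht2⟩ : ∃ t, a' = t * a ∧ b' = t * b := by
        by_cases ha0 : a = 0
        · have hb0 : b ≠ 0 := fun e => h0 ⟨ha0, e⟩
          rw [ha0, zero_mul] at hab
          have ha' : a' = 0 := (mul_eq_zero.mp hab.symm).resolve_left hb0
          exact ⟨b' / b, by rw [ha', ha0, mul_zero], (div_mul_cancel₀ _ hb0).symm⟩
        · refine ⟨a' / a, (div_mul_cancel₀ _ ha0).symm, ?_⟩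
          field_simp
          linear_combination hab
      have h := S.smulR t (v := (a • γ + b • δ).1) (f := (a • γ + b • δ).2)
        (S.comb hγ hδ hsk hd a b)
      rw [ht1, ht2, mul_smul, mul_smul, ← smul_add]
      simpa using h
  have hsU : ∀ u ∈ U, S.B u s = 0 := by
    intro u hu
    obtain ⟨a, b, rfl⟩ := Submodule.mem_span_pair.mp hu
    simp [hs1, hs2]
  have hne1 : γ.1 ≠ 0 := fun e => hd (by simp [hddef, e])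
  have h2 : 2 ≤ finrank k U' := by
    have hli : LinearIndependent k ![γ.2, δ.2] := by
      rw [LinearIndependent.pair_iff]
      intro a b hab
      have e1 := congrArg (S.B γ.1) hab
      have e2 := congrArg (S.B δ.1) hab
      simp [hγγ, ← hddef, hd] at e1
      simp [hδδ, hsk, hd] at e2
      exact ⟨e2, e1⟩
    have h := finrank_span_eq_card hli
    rw [Matrix.range_cons_cons_empty, Fintype.card_fin] at h
    rw [hU', h]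
  obtain ⟨U₁', U₁, hSL₁, hle', hle, hlt⟩ := hSL.flip.grow h2 hs0 (fun u hu => hsU u hu)
    (fun u hu => hSL.spread hγ1 hne1 hγs hsU u hu)
  refine ⟨U₁, U₁', hSL₁.of_flip, ?_, hle hγ1, hle' hγ2⟩
  have := hSL₁.of_flip.1.finrank_eq
  omega

variable {S}

theorem IsSp.skew {Γ : Submodule k (V × W)} (h : S.IsSp Γ) {γ η : V × W} (hγ : γ ∈ Γ)
    (hη : η ∈ Γ) : S.B η.1 γ.2 = -S.B γ.1 η.2 := by
  have h1 := S.inc (v := (γ + η).1) (f := (γ + η).2) (h.1 _ (Γ.add_mem hγ hη))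
  simp only [Prod.fst_add, Prod.snd_add, map_add, LinearMap.add_apply,
    S.inc (v := γ.1) (f := γ.2) (h.1 _ hγ), S.inc (v := η.1) (f := η.2) (h.1 _ hη), zero_add,
    add_zero] at h1
  linear_combination h1

theorem IsSp.exists_ne {Γ : Submodule k (V × W)} (h : S.IsSp Γ) {γ : V × W} (hγ : γ ∈ Γ)
    (h0 : γ ≠ 0) : ∃ η ∈ Γ, S.B γ.1 η.2 ≠ 0 := by
  by_contra! hc
  exact h0 (h.2 γ hγ hc)

theorem IsSp.nz {Γ : Submodule k (V × W)} (h : S.IsSp Γ) {γ : V × W} (hγ : γ ∈ Γ)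
    (h0 : γ ≠ 0) : S.NZ γ := by
  obtain ⟨η, hη, hne⟩ := h.exists_ne hγ h0
  refine ⟨h.1 γ hγ, fun e => hne (by simp [e]), fun e => ?_⟩
  have := h.skew hγ hη
  rw [e, map_zero] at this
  exact hne (by linear_combination this)

theorem IsSp.exists_ne₂ {Γ : Submodule k (V × W)} (h : S.IsSp Γ) {γ γ' : V × W} (hγ : γ ∈ Γ)
    (h0 : γ ≠ 0) (hγ' : γ' ∈ Γ) (h0' : γ' ≠ 0) :
    ∃ η ∈ Γ, S.B γ.1 η.2 ≠ 0 ∧ S.B γ'.1 η.2 ≠ 0 := by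
  obtain ⟨x, hx, hx'⟩ := h.exists_ne hγ h0
  obtain ⟨y, hy, hy'⟩ := h.exists_ne hγ' h0'
  by_cases h1 : S.B γ'.1 x.2 = 0
  swap
  · exact ⟨x, hx, hx', h1⟩
  by_cases h2 : S.B γ.1 y.2 = 0
  swap
  · exact ⟨y, hy, h2, hy'⟩
  exact ⟨x + y, Γ.add_mem hx hy, by simpa [h2] using hx', by simpa [h1] using hy'⟩

theorem IsSp.conn {Γ : Submodule k (V × W)} (h : S.IsSp Γ) {γ γ' : V × W} (hγ : γ ∈ Γ)
    (h0 : γ ≠ 0) (hγ' : γ' ∈ Γ) (h0' : γ' ≠ 0) : S.Conn γ γ' := by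
  obtain ⟨η, hη, h1, h2⟩ := h.exists_ne₂ hγ h0 hγ' h0'
  have hη0 : η ≠ 0 := by rintro rfl; simp at h1
  refine (Relation.ReflTransGen.single ⟨h.nz hγ h0, h.nz hη hη0, h1, ?_⟩).tail
    ⟨h.nz hη hη0, h.nz hγ' h0', ?_, h2⟩
  · rw [h.skew hγ' hη]; exact neg_ne_zero.mpr h2
  · rw [h.skew hγ hη]; exact neg_ne_zero.mpr h1

theorem IsSp.repr [FiniteDimensional k V] [FiniteDimensional k W] {Γ : Submodule k (V × W)}
    (h : S.IsSp Γ) (v : V) : ∃ γ₀ ∈ Γ, ∀ γ ∈ Γ, S.B γ₀.1 γ.2 = S.B v γ.2 := by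
  let g : Γ →ₗ[k] Dual k Γ := LinearMap.compl₁₂ S.B ((LinearMap.fst k V W).comp Γ.subtype)
    ((LinearMap.snd k V W).comp Γ.subtype)
  have hg : Function.Injective g := by
    rw [injective_iff_map_eq_zero]
    intro u hu
    exact Subtype.ext (h.2 u u.2 fun f hf => LinearMap.congr_fun hu ⟨f, hf⟩)
  obtain ⟨γ₀, hγ₀⟩ := (LinearMap.injective_iff_surjective_of_finrank_eq_finrank
    (Subspace.dual_finrank_eq).symm).mp hg ((S.B v).comp ((LinearMap.snd k V W).comp Γ.subtype))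
  exact ⟨γ₀, γ₀.2, fun γ hγ => LinearMap.congr_fun hγ₀ ⟨γ, hγ⟩⟩

theorem IsSp.proportional {Γ : Submodule k (V × W)} {w : V} {g : W}
    (hno : ∀ γ ∈ Γ, S.B γ.1 g = 0 ↔ S.B w γ.2 = 0) :
    ∃ l : k, l ≠ 0 ∧ ∀ γ ∈ Γ, S.B w γ.2 = -(l * S.B γ.1 g) := by
  by_cases hall : ∀ γ ∈ Γ, S.B γ.1 g = 0
  · exact ⟨1, one_ne_zero, fun γ hγ => by rw [(hno γ hγ).mp (hall γ hγ), hall γ hγ]; simp⟩
  push Not at hall
  obtain ⟨ξ, hξ, hξa⟩ := hall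
  refine ⟨-(S.B w ξ.2 / S.B ξ.1 g), ?_, fun γ hγ => ?_⟩
  · exact neg_ne_zero.mpr (div_ne_zero (fun e => hξa ((hno ξ hξ).mpr e)) hξa)
  · have h0 := (hno (γ - (S.B γ.1 g / S.B ξ.1 g) • ξ)
      (Γ.sub_mem hγ (Γ.smul_mem _ hξ))).mp (by simp [div_mul_cancel₀ _ hξa])
    simp only [Prod.snd_sub, Prod.smul_snd, map_sub, map_smul, smul_eq_mul, sub_eq_zero] at h0
    rw [h0]
    ring

theorem IsSp.decomp [FiniteDimensional k V] [FiniteDimensional k W] {Γ : Submodule k (V × W)}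
    (h : S.IsSp Γ) {w : V} {g : W} (hy : (w, g) ∈ S.Φ)
    (hno : ∀ γ ∈ Γ, S.B γ.1 g = 0 ↔ S.B w γ.2 = 0) :
    ∃ l : k, l ≠ 0 ∧ ∃ γ₀ ∈ Γ, ∃ ρ, S.PerpTo Γ ρ ∧ γ₀ + ρ = (w, l • g) ∧ γ₀ + ρ ∈ S.Φ ∧
      ∀ γ ∈ Γ, S.B γ₀.1 γ.2 = S.B w γ.2 := by
  obtain ⟨l, hl, hl'⟩ := IsSp.proportional hno
  obtain ⟨γ₀, hγ₀, hγ₀'⟩ := h.repr w
  refine ⟨l, hl, γ₀, hγ₀, (w, l • g) - γ₀, ?_, add_sub_cancel _ _,
    (add_sub_cancel γ₀ (w, l • g)).symm ▸ S.smulR l hy, hγ₀'⟩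
  intro γ hγ
  constructor
  · simp [hγ₀' γ hγ]
  · have e := h.skew hγ₀ hγ
    simp only [Prod.snd_sub, map_sub, map_smul, smul_eq_mul]
    rw [e, hγ₀' γ hγ, hl' γ hγ]
    ring

theorem IsSp.reach {Γ : Submodule k (V × W)} (h : S.IsSp Γ) {ρ γ₀ : V × W} (hρ : S.PerpTo Γ ρ)
    (hγ₀ : γ₀ ∈ Γ) (h0 : γ₀ ≠ 0) (hΦ : γ₀ + ρ ∈ S.Φ) :
    ∀ γ ∈ Γ, γ ≠ 0 → γ + ρ ∈ S.Φ := by
  have step : ∀ γ₁ ∈ Γ, γ₁ + ρ ∈ S.Φ → ∀ γ ∈ Γ, S.B γ₁.1 γ.2 ≠ 0 → γ + ρ ∈ S.Φ := by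
    intro γ₁ hγ₁ h1 γ hγ hne
    have hx : γ - γ₁ ∈ Γ := Γ.sub_mem hγ hγ₁
    have h11 := S.inc (v := γ₁.1) (f := γ₁.2) (h.1 _ hγ₁)
    have e1 : S.B (γ₁ + ρ).1 (γ - γ₁).2 = S.B γ₁.1 γ.2 := by
      rw [Prod.fst_add, map_add, LinearMap.add_apply, (hρ _ hx).1, add_zero, Prod.snd_sub,
        map_sub, h11, sub_zero]
    have e2 : S.B (γ - γ₁).1 (γ₁ + ρ).2 = -S.B γ₁.1 γ.2 := by
      rw [Prod.snd_add, map_add, (hρ _ hx).2, add_zero, Prod.fst_sub, map_sub,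
        LinearMap.sub_apply, h11, sub_zero, h.skew hγ₁ hγ]
    have h' := S.move (v := (γ - γ₁).1) (f := (γ - γ₁).2) (w := (γ₁ + ρ).1) (g := (γ₁ + ρ).2)
      (S.B γ₁.1 γ.2)⁻¹ (h.1 _ hx) h1
    rw [e1, e2, mul_neg, inv_mul_cancel₀ hne, one_smul, neg_smul, one_smul, sub_neg_eq_add] at h'
    convert h' using 1
    ext <;> simp <;> abel
  intro γ hγ hγ0
  obtain ⟨η, hη, h1, h2⟩ := h.exists_ne₂ hγ₀ h0 hγ hγ0
  refine step η hη (step γ₀ hγ₀ hΦ η hη h1) γ hγ ?_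
  rw [h.skew hγ hη]
  exact neg_ne_zero.mpr h2

theorem IsSp.perp_self {Γ : Submodule k (V × W)} (h : S.IsSp Γ) {ρ γ₀ : V × W}
    (hρ : S.PerpTo Γ ρ) (hγ₀ : γ₀ ∈ Γ) (hΦ : γ₀ + ρ ∈ S.Φ) : S.B ρ.1 ρ.2 = 0 := by
  have h1 := S.inc (v := (γ₀ + ρ).1) (f := (γ₀ + ρ).2) hΦ
  simpa [(hρ _ hγ₀).1, (hρ _ hγ₀).2, S.inc (v := γ₀.1) (f := γ₀.2) (h.1 _ hγ₀)] using h1

/-- A symplectic block grows along a non-radical orthogonal direction. -/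
theorem IsSp.grow [FiniteDimensional k V] [FiniteDimensional k W] {Γ : Submodule k (V × W)}
    (h : S.IsSp Γ) (h2 : (2 : k) ≠ 0)
    (hno : ∀ y, S.NZ y → ∀ γ ∈ Γ, S.B γ.1 y.2 = 0 ↔ S.B y.1 γ.2 = 0)
    {γ₀ ρ : V × W} (hγ₀ : γ₀ ∈ Γ) (h0 : γ₀ ≠ 0) (hρ : S.PerpTo Γ ρ) (hΦ : γ₀ + ρ ∈ S.Φ)
    {z : V × W} (hz : S.NZ z) (hzρ : S.B ρ.1 z.2 ≠ 0 ∨ S.B z.1 ρ.2 ≠ 0) :
    ∃ Γ₁, S.IsSp Γ₁ ∧ Γ ≤ Γ₁ ∧ finrank k Γ < finrank k Γ₁ := by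
  have hρρ := h.perp_self hρ hγ₀ hΦ
  obtain ⟨z, hz, hzρ, ξ, hξ, hzξ⟩ : ∃ z, S.NZ z ∧ (S.B ρ.1 z.2 ≠ 0 ∨ S.B z.1 ρ.2 ≠ 0) ∧
      ∃ ξ ∈ Γ, S.B z.1 ξ.2 ≠ 0 := by
    by_cases hne : ∃ ξ ∈ Γ, S.B z.1 ξ.2 ≠ 0
    · exact ⟨z, hz, hzρ, hne⟩
    push Not at hne
    have hne' : ∀ ξ ∈ Γ, S.B ξ.1 z.2 = 0 := fun ξ hξ => (hno z hz ξ hξ).mpr (hne ξ hξ)
    obtain ⟨η, hη, hηne⟩ := h.exists_ne hγ₀ h0
    have hx : (γ₀ + ρ) ∈ S.Φ := hΦ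
    set z' : V × W := (z.1 + (1 * S.B z.1 (γ₀ + ρ).2) • (γ₀ + ρ).1,
      z.2 - (1 * S.B (γ₀ + ρ).1 z.2) • (γ₀ + ρ).2) with hz'def
    have hz' : S.NZ z' :=
      S.move_nz (v := (γ₀ + ρ).1) (f := (γ₀ + ρ).2) (w := z.1) (g := z.2) 1 hx hz
    have e1 : S.B ρ.1 z'.2 = S.B ρ.1 z.2 := by
      simp [hz'def, (hρ _ hγ₀).1, hρρ]
    have e2 : S.B z'.1 ρ.2 = S.B z.1 ρ.2 := by
      simp [hz'def, (hρ _ hγ₀).2, hρρ]
    refine ⟨z', hz', by rwa [e1, e2], ?_⟩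
    by_contra! hc
    have hc1 := hc η hη
    have hc2 := (hno z' hz' η hη).mpr hc1
    have hsk := h.skew hγ₀ hη
    simp [hz'def, hne η hη, hne γ₀ hγ₀, (hρ _ hη).1, hηne] at hc1
    simp [hz'def, hne' η hη, hne' γ₀ hγ₀, (hρ _ hη).2, hsk, hηne] at hc2
    exact hzρ.elim (fun e => e hc2) (fun e => e hc1)
  obtain ⟨l, hl, η₀, hη₀, ρ', hρ', he, hΦ', hη₀'⟩ :=
    h.decomp (w := z.1) (g := z.2) hz.1 (hno z hz)
  have hη₀0 : η₀ ≠ 0 := by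
    rintro rfl
    exact hzξ (by rw [← hη₀' ξ hξ]; simp)
  have hρρ' := h.perp_self hρ' hη₀ hΦ'
  set d := S.B ρ.1 ρ'.2 with hddef
  set d' := S.B ρ'.1 ρ.2 with hd'def
  have hne : d ≠ 0 ∨ d' ≠ 0 := by
    have e : ρ' = (z.1, l • z.2) - η₀ := eq_sub_of_add_eq' he
    have e1 : d = l * S.B ρ.1 z.2 := by simp [hddef, e, (hρ _ hη₀).1]
    have e2 : d' = S.B z.1 ρ.2 := by simp [hd'def, e, (hρ _ hη₀).2]
    rw [e1, e2]
    exact hzρ.imp (mul_ne_zero hl) id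
  have hall := h.reach hρ hγ₀ h0 hΦ
  have hall' := h.reach hρ' hη₀ hη₀0 hΦ'
  -- the pairing of the two new directions is alternating
  have hdd : d' = -d := by
    obtain ⟨η, hη, hηne⟩ := h.exists_ne hγ₀ h0
    have hη0 : η ≠ 0 := by rintro rfl; simp at hηne
    have hx := hall γ₀ hγ₀ h0
    have hy := hall' η hη hη0
    have hynz : S.NZ (η + ρ') := by
      refine ⟨hy, fun e => ?_, fun e => ?_⟩
      · have : S.B (η + ρ').1 γ₀.2 = 0 := by rw [e]; simp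
        simp [(hρ' _ hγ₀).1, h.skew hγ₀ hη, hηne] at this
      · have : S.B γ₀.1 (η + ρ').2 = 0 := by rw [e]; simp
        simp [(hρ' _ hγ₀).2, hηne] at this
    have hm := S.move_nz (v := (γ₀ + ρ).1) (f := (γ₀ + ρ).2) (w := (η + ρ').1) (g := (η + ρ').2)
      1 hx hynz
    obtain ⟨m, hm0, hm'⟩ := IsSp.proportional (hno _ hm)
    have hsk := h.skew hγ₀ hη
    have h11 := S.inc (v := γ₀.1) (f := γ₀.2) (h.1 _ hγ₀)
    have h22 := S.inc (v := η.1) (f := η.2) (h.1 _ hη)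
    have e1 := hm' γ₀ hγ₀
    have e2 := hm' η hη
    simp [(hρ _ hγ₀).1, (hρ _ hγ₀).2, (hρ' _ hγ₀).1, (hρ' _ hγ₀).2, hsk, h11] at e1
    simp [(hρ _ hη).1, (hρ _ hη).2, (hρ' _ hη).1, (hρ' _ hη).2,
      (hρ' _ hγ₀).1, (hρ' _ hγ₀).2, hsk, h22, ← hddef, ← hd'def] at e2
    have hm1 : m = 1 := mul_right_cancel₀ hηne (by linear_combination -e1)
    subst hm1
    exact mul_right_cancel₀ hηne (by linear_combination e2)
  have hd : d ≠ 0 := hne.elim id (fun e => by rw [hdd] at e; exact neg_ne_zero.mp e)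
  have s1 : ∀ γ ∈ Γ, γ ≠ 0 → ∀ a : k, γ + a • ρ ∈ S.Φ := by
    intro γ hγ hγ0 a
    by_cases ha : a = 0
    · rw [ha, zero_smul, add_zero]; exact h.1 γ hγ
    have := S.smul_mem a (hall (a⁻¹ • γ) (Γ.smul_mem _ hγ) (smul_ne_zero (inv_ne_zero ha) hγ0))
    rwa [smul_add, smul_inv_smul₀ ha] at this
  have s1' : ∀ γ ∈ Γ, γ ≠ 0 → ∀ a : k, γ + a • ρ' ∈ S.Φ := by
    intro γ hγ hγ0 a
    by_cases ha : a = 0
    · rw [ha, zero_smul, add_zero]; exact h.1 γ hγ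
    have := S.smul_mem a (hall' (a⁻¹ • γ) (Γ.smul_mem _ hγ) (smul_ne_zero (inv_ne_zero ha) hγ0))
    rwa [smul_add, smul_inv_smul₀ ha] at this
  have s2 : ∀ γ ∈ Γ, ∀ a b : k, a ≠ 0 → b ≠ 0 → γ + a • ρ + b • ρ' ∈ S.Φ := by
    intro γ hγ a b ha hb
    obtain ⟨γ₁, hγ₁, γ₂, hγ₂, h10, h20, hsum, horth⟩ : ∃ γ₁ ∈ Γ, ∃ γ₂ ∈ Γ, γ₁ ≠ 0 ∧ γ₂ ≠ 0 ∧
        γ₁ + γ₂ = γ ∧ S.B γ₁.1 γ₂.2 = 0 := by
      by_cases hγ0 : γ = 0
      · exact ⟨γ₀, hγ₀, -γ₀, Γ.neg_mem hγ₀, h0, neg_ne_zero.mpr h0,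
          by rw [hγ0, add_neg_cancel], by simp [S.inc (v := γ₀.1) (f := γ₀.2) (h.1 _ hγ₀)]⟩
      · exact ⟨(2 : k) • γ, Γ.smul_mem _ hγ, -γ, Γ.neg_mem hγ, smul_ne_zero h2 hγ0,
          neg_ne_zero.mpr hγ0, by rw [two_smul]; abel,
          by simp [S.inc (v := γ.1) (f := γ.2) (h.1 _ hγ)]⟩
    have horth' : S.B γ₂.1 γ₁.2 = 0 := by rw [h.skew hγ₁ hγ₂, horth, neg_zero]
    have hc := S.comb (s1 γ₁ hγ₁ h10 a) (s1' γ₂ hγ₂ h20 b) ?_ ?_ 1 1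
    · rw [← hsum]
      simpa [add_assoc, add_left_comm] using hc
    · simp [(hρ _ hγ₂).1, (hρ _ hγ₂).2, (hρ' _ hγ₁).1,
        (hρ' _ hγ₁).2, horth, horth', ← hddef, ← hd'def, hdd]
      ring
    · simp [(hρ _ hγ₂).1, (hρ' _ hγ₁).2, horth, ← hddef, ha, hb, hd]
  have hv : ρ + ρ' ∈ S.Φ := by simpa using s2 0 Γ.zero_mem 1 1 one_ne_zero one_ne_zero
  have hw : ρ + (2 : k) • ρ' ∈ S.Φ := by simpa using s2 0 Γ.zero_mem 1 2 one_ne_zero h2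
  have s3 : ∀ a b : k, a • (ρ + ρ') + b • (ρ + (2 : k) • ρ') ∈ S.Φ := by
    intro a b
    refine S.comb hv hw ?_ ?_ a b
    · simp [hρρ, hρρ', ← hddef, ← hd'def, hdd]
    · have : S.B (ρ + ρ').1 (ρ + (2 : k) • ρ').2 = d := by
        simp [hρρ, hρρ', ← hddef, ← hd'def, hdd]
        ring
      rw [this]; exact hd
  refine ⟨Γ ⊔ Submodule.span k {ρ, ρ'}, ⟨?_, ?_⟩, le_sup_left, ?_⟩
  · intro x hx
    obtain ⟨γ, hγ, _, hs, rfl⟩ := Submodule.mem_sup.mp hx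
    obtain ⟨a, b, rfl⟩ := Submodule.mem_span_pair.mp hs
    rw [← add_assoc]
    by_cases hab : a ≠ 0 ∧ b ≠ 0
    · exact s2 γ hγ a b hab.1 hab.2
    by_cases hγ0 : γ = 0
    · convert s3 (2 * a - b) (b - a) using 1
      rw [hγ0, zero_add]
      module
    by_cases ha : a = 0
    · rw [ha, zero_smul, add_zero]; exact s1' γ hγ hγ0 b
    · have hb : b = 0 := by_contra fun hb => hab ⟨ha, hb⟩
      rw [hb, zero_smul, add_zero]; exact s1 γ hγ hγ0 a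
  · intro x hx hx0
    obtain ⟨γ, hγ, _, hs, rfl⟩ := Submodule.mem_sup.mp hx
    obtain ⟨a, b, rfl⟩ := Submodule.mem_span_pair.mp hs
    have ea := hx0 ρ' (Submodule.mem_sup_right (Submodule.subset_span (by simp)))
    have eb := hx0 ρ (Submodule.mem_sup_right (Submodule.subset_span (by simp)))
    simp [(hρ' _ hγ).2, hρρ', ← hddef, hd] at ea
    simp [(hρ _ hγ).2, hρρ, ← hd'def, hdd, hd] at eb
    have hγ0 : γ = 0 := h.2 γ hγ fun η hη => by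
      have := hx0 η (Submodule.mem_sup_left hη)
      simpa [(hρ _ hη).1, (hρ' _ hη).1] using this
    simp [ea, eb, hγ0]
  · refine Submodule.finrank_lt_finrank_of_lt (lt_of_le_of_ne le_sup_left fun e => ?_)
    have hρΓ : ρ ∈ Γ := by
      rw [e]; exact Submodule.mem_sup_right (Submodule.subset_span (by simp))
    have := h.2 ρ hρΓ fun η hη => (hρ η hη).1
    exact hd (by simp [hddef, this])

/-- In a maximal symplectic block without jumps the connected pairs are multiples of pairs of the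
block. -/
theorem IsSp.component_mem [FiniteDimensional k V] [FiniteDimensional k W]
    {Γ : Submodule k (V × W)} (h : S.IsSp Γ) (h2 : (2 : k) ≠ 0)
    (hno : ∀ y, S.NZ y → ∀ γ ∈ Γ, S.B γ.1 y.2 = 0 ↔ S.B y.1 γ.2 = 0)
    (hmax : ∀ Γ₁, S.IsSp Γ₁ → Γ ≤ Γ₁ → finrank k Γ₁ ≤ finrank k Γ)
    {p q : V × W} (hp : p ∈ Γ) (hpq : S.Conn p q) :
    ∃ c : k, c ≠ 0 ∧ (q.1, c • q.2) ∈ Γ := by
  induction hpq with
  | refl => exact ⟨1, one_ne_zero, by simpa using hp⟩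
  | @tail b y _ hby ih =>
    obtain ⟨c, hc0, hb⟩ := ih
    obtain ⟨l, hl, γ₀, hγ₀, ρ, hρ, he, hΦ, hγ₀'⟩ :=
      h.decomp (w := y.1) (g := y.2) hby.2.1.1 (hno y hby.2.1)
    refine ⟨l, hl, ?_⟩
    have hy : S.B y.1 (c • b.2) ≠ 0 := by
      rw [map_smul, smul_eq_mul]; exact mul_ne_zero hc0 hby.2.2.2
    have h0 : γ₀ ≠ 0 := by
      rintro rfl
      exact hy (by rw [← hγ₀' _ hb]; simp)
    have hrad : ∀ w g, (w, g) ∈ S.Φ → w ≠ 0 → g ≠ 0 →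
        S.B (γ₀.1 - (γ₀ + ρ).1) g = 0 ∧ S.B w (γ₀.2 - (γ₀ + ρ).2) = 0 := by
      intro w g hwg hw hg
      by_contra hne
      obtain ⟨Γ₁, hΓ₁, hle, hlt⟩ := h.grow h2 hno hγ₀ h0 hρ hΦ (z := (w, g)) ⟨hwg, hw, hg⟩
        (by by_contra hc; exact hne (by simpa [not_or] using hc))
      exact absurd (hmax Γ₁ hΓ₁ hle) (not_le.mpr hlt)
    have hnz : S.NZ (γ₀ + ρ) := by
      rw [he]; exact ⟨S.smulR l hby.2.1.1, hby.2.1.2.1, smul_ne_zero hl hby.2.1.2.2⟩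
    obtain ⟨d, hd0, hd1, hd2⟩ := S.congr (v := γ₀.1) (f := γ₀.2) (v' := (γ₀ + ρ).1)
      (f' := (γ₀ + ρ).2) (h.1 _ hγ₀) hΦ (h.nz hγ₀ h0).2.1 (h.nz hγ₀ h0).2.2 hnz.2.1 hnz.2.2 hrad
    obtain ⟨η, hη, hηne⟩ := h.exists_ne hγ₀ h0
    have hd : d = 1 := by
      have e := congrArg (fun v => S.B v η.2) hd1
      simp [(hρ η hη).1, hηne] at e
      exact e
    rw [hd, one_smul] at hd1 hd2
    have : γ₀ + ρ = γ₀ := Prod.ext hd1 hd2.symm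
    rw [← he, this]
    exact hγ₀

theorem exists_max_measure {α : Type*} (P : α → Prop) (f : α → ℕ) (N : ℕ) (hN : ∀ a, f a ≤ N)
    (h : ∃ a, P a) : ∃ a, P a ∧ ∀ b, P b → f b ≤ f a := by
  classical
  obtain ⟨a, ha⟩ := h
  obtain ⟨b, hb, hb'⟩ := Nat.findGreatest_spec (P := fun n => ∃ a, P a ∧ f a = n) (hN a)
    ⟨a, ha, rfl⟩
  exact ⟨b, hb, fun c hc => hb' ▸ Nat.le_findGreatest (hN c) ⟨c, hc, rfl⟩⟩

variable (S)

/-- The structure of a component: special linear or symplectic. -/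
theorem exists_block [FiniteDimensional k V] [FiniteDimensional k W] (h2 : (2 : k) ≠ 0)
    {p₀ : V × W} (hp₀ : S.NZ p₀) :
    ∃ U U', S.Perf U U' ∧ (∀ q, S.Conn p₀ q → q.1 ∈ U ∧ q.2 ∈ U') ∧
      (∀ u ∈ U, u ≠ 0 → ∃ f, S.Conn p₀ (u, f)) ∧ (∀ f ∈ U', f ≠ 0 → ∃ u, S.Conn p₀ (u, f)) ∧
      ((∀ u ∈ U, ∀ f ∈ U', S.B u f = 0 → (u, f) ∈ S.Φ) ∨
        ∃ Γ, S.IsSp Γ ∧ U = Γ.map (LinearMap.fst k V W) ∧ U' = Γ.map (LinearMap.snd k V W) ∧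
          ∀ q, S.Conn p₀ q → ∃ c : k, c ≠ 0 ∧ (q.1, c • q.2) ∈ Γ) := by
  by_cases hsl : ∃ X : Submodule k V × Submodule k W, S.IsSL X.1 X.2 ∧ 3 ≤ finrank k X.1 ∧
      ∃ p, p.1 ∈ X.1 ∧ p.2 ∈ X.2 ∧ S.Conn p₀ p
  · obtain ⟨⟨U, U'⟩, ⟨hSL, h3, p, hp1, hp2, hp⟩, hmax⟩ :=
      exists_max_measure _ (fun X : Submodule k V × Submodule k W => finrank k X.1) (finrank k V)
        (fun X => Submodule.finrank_le _) hsl
    have hmem : ∀ q, S.Conn p₀ q → q.1 ∈ U ∧ q.2 ∈ U' := fun q hq =>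
      hSL.component_mem h3 (fun U₁ U₁' h hle hle' => hmax (U₁, U₁')
        ⟨h, h3.trans (Submodule.finrank_mono hle), p, hle hp1, hle' hp2, hp⟩) hp1 hp2
        (S.conn_trans (S.conn_symm hp) hq)
    have hpnz := S.conn_nz hp hp₀
    refine ⟨U, U', hSL.1, hmem, ?_, ?_, Or.inl hSL.2⟩
    · intro u hu hu0
      obtain ⟨f, hf, hnz⟩ := hSL.exists_pair (by omega) hu hu0
      exact ⟨f, S.conn_trans hp (hSL.conn hpnz hnz hp2 hu)⟩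
    · intro f hf hf0
      obtain ⟨u, hu, hnz⟩ := hSL.flip.exists_pair (by rw [← hSL.1.finrank_eq]; omega) hf hf0
      exact ⟨u, S.conn_trans hp (hSL.conn hpnz ⟨hnz.1, hnz.2.2, hnz.2.1⟩ hp2 hu)⟩
  have hsp : ∃ Γ, S.IsSp Γ ∧ p₀ ∈ Γ := by
    obtain ⟨w, g, hwg, hg, hw⟩ := S.partner hp₀.1 hp₀.2.1 hp₀.2.2
    set q : V × W := (w, (-(S.B w p₀.2) / S.B p₀.1 g) • g) with hqdef
    have hq : q ∈ S.Φ := S.smulR _ hwg
    have e : S.B p₀.1 q.2 = -S.B w p₀.2 := by simp [hqdef, div_mul_cancel₀ _ hg]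
    have hpp : S.B p₀.1 p₀.2 = 0 := S.inc hp₀.1
    have hqq : S.B q.1 q.2 = 0 := S.inc hq
    have hne : S.B p₀.1 q.2 ≠ 0 := by rw [e]; exact neg_ne_zero.mpr hw
    have hsk : S.B q.1 p₀.2 = -S.B p₀.1 q.2 := by rw [e, neg_neg]
    refine ⟨Submodule.span k {p₀, q}, ⟨?_, ?_⟩, Submodule.subset_span (by simp)⟩
    · intro x hx
      obtain ⟨a, b, rfl⟩ := Submodule.mem_span_pair.mp hx
      exact S.comb hp₀.1 hq hsk hne a b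
    · intro x hx hx0
      obtain ⟨a, b, rfl⟩ := Submodule.mem_span_pair.mp hx
      have ea := hx0 q (Submodule.subset_span (by simp))
      have eb := hx0 p₀ (Submodule.subset_span (by simp))
      simp [hqq, hne] at ea
      simp [hpp, hsk, hne] at eb
      simp [ea, eb]
  obtain ⟨Γ, ⟨hΓ, hp₀Γ⟩, hmax⟩ := exists_max_measure (fun Γ => S.IsSp Γ ∧ p₀ ∈ Γ)
    (fun Γ => finrank k Γ) (finrank k (V × W)) (fun Γ => Submodule.finrank_le _) hsp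
  have hp₀0 : p₀ ≠ 0 := fun e => hp₀.2.1 (by rw [e]; rfl)
  have hno : ∀ y, S.NZ y → ∀ γ ∈ Γ, S.B γ.1 y.2 = 0 ↔ S.B y.1 γ.2 = 0 := by
    intro y hy γ hγ
    by_cases hγ0 : γ = 0
    · simp [hγ0]
    obtain ⟨δ, hδ, hd⟩ := hΓ.exists_ne hγ hγ0
    have hsk := hΓ.skew hγ hδ
    constructor
    · intro ha
      by_contra hb
      obtain ⟨U, U', hSL, h3, h1, h1'⟩ := S.jump (hΓ.1 _ hγ) (hΓ.1 _ hδ) hsk hd (w := y.1)
        (g := y.2) hy.1 hy.2.2 hb ha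
      exact hsl ⟨(U, U'), hSL, h3, γ, h1, h1', hΓ.conn hp₀Γ hp₀0 hγ hγ0⟩
    · intro hb
      by_contra ha
      obtain ⟨U', U, hSL, h3, h1', h1⟩ := S.flip.jump (γ := γ.swap) (δ := δ.swap) (hΓ.1 _ hγ)
        (hΓ.1 _ hδ) (by simp [hsk]) (by simp [hsk, hd]) (w := y.2) (g := y.1) hy.1 hy.2.1 ha hb
      have h' := hSL.of_flip
      exact hsl ⟨(U, U'), h', by rw [h'.1.finrank_eq]; exact h3, γ, h1, h1',
        hΓ.conn hp₀Γ hp₀0 hγ hγ0⟩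
  have hmem : ∀ q, S.Conn p₀ q → ∃ c : k, c ≠ 0 ∧ (q.1, c • q.2) ∈ Γ := fun q hq =>
    hΓ.component_mem h2 hno (fun Γ₁ h hle => hmax Γ₁ ⟨h, hle hp₀Γ⟩) hp₀Γ hq
  refine ⟨Γ.map (LinearMap.fst k V W), Γ.map (LinearMap.snd k V W), ⟨?_, ?_⟩, ?_, ?_, ?_,
    Or.inr ⟨Γ, hΓ, rfl, rfl, hmem⟩⟩
  · rintro _ ⟨γ, hγ, rfl⟩ h0
    rw [hΓ.2 γ hγ fun η hη => h0 _ ⟨η, hη, rfl⟩, map_zero]
  · rintro _ ⟨γ, hγ, rfl⟩ h0
    rw [hΓ.2 γ hγ fun η hη => ?_, map_zero]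
    have : S.B η.1 γ.2 = 0 := h0 _ ⟨η, hη, rfl⟩
    rw [hΓ.skew hγ hη] at this
    exact neg_eq_zero.mp this
  · intro q hq
    obtain ⟨c, hc, hcΓ⟩ := hmem q hq
    refine ⟨⟨_, hcΓ, rfl⟩, ?_⟩
    have : c • q.2 ∈ Γ.map (LinearMap.snd k V W) := ⟨_, hcΓ, rfl⟩
    exact (Submodule.smul_mem_iff _ hc).mp this
  · rintro _ ⟨γ, hγ, rfl⟩ h0
    exact ⟨γ.2, hΓ.conn hp₀Γ hp₀0 hγ (fun e => h0 (congrArg Prod.fst e))⟩
  · rintro _ ⟨γ, hγ, rfl⟩ h0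
    exact ⟨γ.1, hΓ.conn hp₀Γ hp₀0 hγ (fun e => h0 (congrArg Prod.snd e))⟩

end Cfsg.Agent.TransvGen.PairSys
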