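import Mathlib
import Cfsg.Prelude.Def_Solvable
import Cfsg.Agent.TransvGen.Group
import Cfsg.Agent.TransvGen.Sp
import Cfsg.Agent.TransvGen.Gen

/-!
# Groups generated by transvections over a prime field of odd order
-/

set_option autoImplicit false

namespace Cfsg.Agent.TransvGen

open Module

/-- The subgroup of the automorphisms fixing a subspace pointwise. -/
def fixSub {k V : Type*} [Field k] [AddCommGroup V] [Module k V] (M : Submodule k V) :
    Subgroup (V ≃ₗ[k] V) where
  carrier := {h | ∀ x ∈ M, h x = x}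
  one_mem' := fun _ _ => rfl
  mul_mem' := fun {a b} ha hb x hx => by rw [LinearEquiv.mul_apply, hb x hx, ha x hx]
  inv_mem' := fun {a} ha x hx => by
    conv_lhs => rw [← ha x hx]
    rw [← LinearEquiv.mul_apply, inv_mul_cancel]
    rfl

/-- The restriction to an invariant subspace. -/
def restrHom {k V : Type*} [Field k] [AddCommGroup V] [Module k V] (K : Subgroup (V ≃ₗ[k] V))
    (M : Submodule k V) (hM : ∀ h ∈ K, M.map (h : V →ₗ[k] V) = M) :
    ↥K →* (↥M ≃ₗ[k] ↥M) where
  toFun h := (h : V ≃ₗ[k] V).ofSubmodules M M (hM h h.2)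
  map_one' := by ext x; rfl
  map_mul' a b := by ext x; rfl

theorem restrHom_apply {k V : Type*} [Field k] [AddCommGroup V] [Module k V]
    (K : Subgroup (V ≃ₗ[k] V)) (M : Submodule k V) (hM : ∀ h ∈ K, M.map (h : V →ₗ[k] V) = M)
    (h : ↥K) (v : ↥M) : ((restrHom K M hM h v : ↥M) : V) = (h : V ≃ₗ[k] V) (v : V) := rfl

theorem restrHom_tv {k V : Type*} [Field k] [AddCommGroup V] [Module k V]
    (K : Subgroup (V ≃ₗ[k] V)) (M : Submodule k V) (hM : ∀ h ∈ K, M.map (h : V →ₗ[k] V) = M)
    {v : ↥M} {f : Dual k V} (hf : f (v : V) = 0) (h : tv (v : V) f ∈ K) :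
    restrHom K M hM ⟨_, h⟩ = tv v (f.comp M.subtype) := by
  ext x
  rw [restrHom_apply, tv_apply hf, tv_apply (v := v) (f := f.comp M.subtype) hf]
  rfl

variable {p : ℕ} [Fact p.Prime]

/-- McLaughlin's theorem over a prime field of odd order. -/
theorem transvection_generated {V : Type*} [AddCommGroup V] [Module (ZMod p) V] [Finite V]
    (hp : Odd p) (H : Subgroup (V ≃ₗ[ZMod p] V)) (T : Set (V ≃ₗ[ZMod p] V))
    (hHT : H = Subgroup.closure T)
    (hT : ∀ t ∈ T, orderOf t = p ∧
      Module.finrank (ZMod p) ↥(LinearMap.ker ((t : V →ₗ[ZMod p] V) - LinearMap.id)) + 1 =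
        Module.finrank (ZMod p) V)
    (hOp : Cfsg.pCore p ↥H = ⊥) :
    ∃ (n : ℕ) (W : Fin (n + 1) → Submodule (ZMod p) V) (K : Fin n → Subgroup (V ≃ₗ[ZMod p] V)),
      1 ≤ n ∧ DirectSum.IsInternal W ∧
      (∀ h ∈ H, ∀ i, (W i).map (h : V →ₗ[ZMod p] V) = W i) ∧
      (∀ j, K j ≤ H ∧ ((K j).subgroupOf H).Normal) ∧ ⨆ j, K j = H ∧
      (∀ j, K j ⊓ (⨆ j' ∈ {j' : Fin n | j' ≠ j}, K j') = ⊥) ∧
      (∀ j j', j ≠ j' → ∀ a ∈ K j, ∀ b ∈ K j', a * b = b * a) ∧
      (∀ j, ∀ h ∈ K j, ∀ i : Fin (n + 1), i ≠ j.succ → ∀ v ∈ W i, h v = v) ∧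
      (∀ j, ∃ ρ : ↥(K j) →* (↥(W j.succ) ≃ₗ[ZMod p] ↥(W j.succ)),
        (∀ (h : ↥(K j)) (v : ↥(W j.succ)),
          ((ρ h v : ↥(W j.succ)) : V) = (h : V ≃ₗ[ZMod p] V) (v : V)) ∧
        ((ρ.range : Set (↥(W j.succ) ≃ₗ[ZMod p] ↥(W j.succ))) =
            {f : ↥(W j.succ) ≃ₗ[ZMod p] ↥(W j.succ) |
              LinearMap.det (f : ↥(W j.succ) →ₗ[ZMod p] ↥(W j.succ)) = 1} ∨
          ∃ B : LinearMap.BilinForm (ZMod p) ↥(W j.succ), B.IsAlt ∧ B.Nondegenerate ∧
            (ρ.range : Set (↥(W j.succ) ≃ₗ[ZMod p] ↥(W j.succ))) =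
              {f : ↥(W j.succ) ≃ₗ[ZMod p] ↥(W j.succ) | ∀ x y, B (f x) (f y) = B x y})) := by
  classical
  haveI : Module.Finite (ZMod p) V := Module.Finite.of_finite
  haveI : Finite (Dual (ZMod p) V) :=
    Finite.of_injective (fun f : Dual (ZMod p) V => (f : V → ZMod p)) DFunLike.coe_injective
  set S := pairSys hp H hOp with hS
  have hB : ∀ (v : V) (f : Dual (ZMod p) V), S.B v f = f v := fun _ _ => rfl
  have hΦ : ∀ q, q ∈ S.Φ → q.2 q.1 = 0 ∧ tv q.1 q.2 ∈ H := fun _ h => h
  have h2 : (2 : ZMod p) ≠ 0 := by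
    intro h
    have h' : ((2 : ℕ) : ZMod p) = 0 := by exact_mod_cast h
    have := (ZMod.natCast_eq_zero_iff 2 p).mp h'
    have := Nat.le_of_dvd (by norm_num) this
    have := (Fact.out : p.Prime).two_le
    obtain ⟨m, rfl⟩ := hp
    omega
  -- the components
  let sr : Setoid {q : V × Dual (ZMod p) V // S.NZ q} :=
    { r := fun a b => S.Conn a.1 b.1
      iseqv := ⟨fun _ => Relation.ReflTransGen.refl, fun h => S.conn_symm h,
        fun h h' => S.conn_trans h h'⟩ }
  let Comp := Quotient sr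
  haveI : Finite Comp := Finite.of_surjective _ (Quotient.mk'_surjective (s := sr))
  haveI : Fintype Comp := Fintype.ofFinite _
  let cls : ∀ q, S.NZ q → Comp := fun q hq => Quotient.mk sr ⟨q, hq⟩
  have hblock : ∀ c : Comp, _ := fun c => S.exists_block h2 (Quotient.out c).2
  choose U U' hperf hmem hpt hax hshape using hblock
  have hout : ∀ (c : Comp) q (hq : S.NZ q), cls q hq = c → S.Conn (Quotient.out c).1 q := by
    intro c q hq h
    exact Quotient.exact ((Quotient.out_eq c).trans h.symm)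
  have hcls : ∀ (c : Comp) q (hq : S.NZ q), S.Conn (Quotient.out c).1 q → cls q hq = c := by
    intro c q hq h
    refine Eq.trans (Quotient.sound ?_) (Quotient.out_eq c)
    exact S.conn_symm h
  have hmem' : ∀ q (hq : S.NZ q), q.1 ∈ U (cls q hq) ∧ q.2 ∈ U' (cls q hq) :=
    fun q hq => hmem _ q (hout _ q hq rfl)
  have hcross : ∀ c d : Comp, c ≠ d → ∀ u ∈ U c, ∀ f ∈ U' d, f u = 0 := by
    intro c d hcd u hu f hf
    by_cases hu0 : u = 0
    · simp [hu0]
    by_cases hf0 : f = 0
    · simp [hf0]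
    obtain ⟨g, hg⟩ := hpt c u hu hu0
    obtain ⟨w, hw⟩ := hax d f hf hf0
    have hgn := S.conn_nz hg (Quotient.out c).2
    have hwn := S.conn_nz hw (Quotient.out d).2
    refine (S.perp_of_not_conn hgn hwn fun hc => hcd ?_).1
    rw [← hcls c _ hgn hg, ← hcls d _ hwn hw]
    exact Quotient.sound hc
  have hptcls : ∀ q (hq : S.NZ q) (c : Comp), q.1 ∈ U c → cls q hq = c := by
    intro q hq c hqc
    by_contra hne
    exact hq.2.1 ((hperf c).1 q.1 hqc fun f hf => hcross _ c hne q.1 (hmem' q hq).1 f hf)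
  let C : Submodule (ZMod p) V := ⨅ q : {q : V × Dual (ZMod p) V // S.NZ q}, LinearMap.ker q.1.2
  have hC : ∀ x, x ∈ C ↔ ∀ q, S.NZ q → q.2 x = 0 := fun x => by
    simp [C, Submodule.mem_iInf]
  -- the index set
  let ι := Option Comp
  haveI : Fintype ι := inferInstanceAs (Fintype (Option Comp))
  let n := Fintype.card ι
  let e : ι ≃ Fin n := Fintype.equivFin ι
  let Wi : ι → Submodule (ZMod p) V := fun i => Option.elim i ⊥ U
  let gens : ι → Set (V ≃ₗ[ZMod p] V) := fun i =>
    {s | ∃ q, ∃ hq : S.NZ q, some (cls q hq) = i ∧ s = tv q.1 q.2}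
  let Ki : ι → Subgroup (V ≃ₗ[ZMod p] V) := fun i => Subgroup.closure (gens i)
  let W : Fin (n + 1) → Submodule (ZMod p) V := Fin.cases C fun j => Wi (e.symm j)
  let K : Fin n → Subgroup (V ≃ₗ[ZMod p] V) := fun j => Ki (e.symm j)
  have hW0 : W 0 = C := rfl
  have hWs : ∀ j : Fin n, W j.succ = Wi (e.symm j) := fun j => by simp [W]
  -- generators act trivially outside their component
  have hkill : ∀ q (hq : S.NZ q) (i : ι), i ≠ some (cls q hq) → ∀ x ∈ Wi i, q.2 x = 0 := by
    intro q hq i hi x hx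
    cases i with
    | none =>
      have : x = 0 := (Submodule.mem_bot _).mp hx
      simp [this]
    | some d => exact hcross d _ (fun e' => hi (by rw [e'])) x hx _ (hmem' q hq).2
  have hgenfix : ∀ (i i' : ι), i ≠ i' → Ki i ≤ fixSub (Wi i') := by
    intro i i' hne
    refine (Subgroup.closure_le _).mpr ?_
    rintro _ ⟨q, hq, rfl, rfl⟩ x hx
    rw [tv_apply (hΦ q hq.1).1, hkill q hq i' hne.symm x hx, zero_smul, add_zero]
  have hfixC : ∀ i : ι, Ki i ≤ fixSub C := by
    intro i
    refine (Subgroup.closure_le _).mpr ?_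
    rintro _ ⟨q, hq, rfl, rfl⟩ x hx
    rw [tv_apply (hΦ q hq.1).1, (hC x).mp hx q hq, zero_smul, add_zero]
  have hT' : ∀ t ∈ T, ∃ q, ∃ hq : S.NZ q, t = tv q.1 q.2 := by
    intro t ht
    obtain ⟨v, f, h0, hv, hf, rfl⟩ := exists_eq_tv t (hT t ht).1 (hT t ht).2
    refine ⟨(v, f), ⟨⟨h0, ?_⟩, hv, hf⟩, rfl⟩
    show tv v f ∈ H
    rw [hHT]; exact Subgroup.subset_closure ht
  have hKH : ∀ i, Ki i ≤ H := fun i => (Subgroup.closure_le _).mpr (by
    rintro _ ⟨q, hq, -, rfl⟩; exact (hΦ q hq.1).2)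
  have hsup : ⨆ j, K j = H := by
    refine le_antisymm (iSup_le fun j => hKH _) ?_
    conv_lhs => rw [hHT]
    refine (Subgroup.closure_le _).mpr fun t ht => ?_
    obtain ⟨q, hq, rfl⟩ := hT' t ht
    refine SetLike.le_def.mp (le_iSup K (e (some (cls q hq)))) ?_
    show _ ∈ Ki (e.symm (e (some (cls q hq))))
    rw [e.symm_apply_apply]
    exact Subgroup.subset_closure ⟨q, hq, rfl, rfl⟩
  have hinv : ∀ h ∈ H, ∀ i, (W i).map (h : V →ₗ[ZMod p] V) = W i := by
    intro h hh
    rw [hHT] at hh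
    induction hh using Subgroup.closure_induction with
    | mem t ht =>
      intro i
      obtain ⟨q, hq, rfl⟩ := hT' t ht
      refine Submodule.eq_of_le_of_finrank_eq ?_ (LinearEquiv.finrank_map_eq _ _)
      rintro _ ⟨x, hx, rfl⟩
      show tv q.1 q.2 x ∈ W i
      rw [tv_apply (hΦ q hq.1).1]
      refine Submodule.add_mem _ hx ?_
      induction i using Fin.cases with
      | zero => rw [(hC x).mp hx q hq, zero_smul]; exact Submodule.zero_mem _
      | succ j =>
        have hx' : x ∈ Wi (e.symm j) := (hWs j) ▸ hx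
        rw [hWs j]
        by_cases hj : e.symm j = some (cls q hq)
        · rw [hj]; exact Submodule.smul_mem _ _ (hmem' q hq).1
        · rw [hkill q hq _ hj x hx', zero_smul]; exact Submodule.zero_mem _
    | one => intro i; exact Submodule.map_id _
    | mul a b _ _ ha hb =>
      intro i
      rw [show ((a * b : V ≃ₗ[ZMod p] V) : V →ₗ[ZMod p] V) =
        (a : V →ₗ[ZMod p] V).comp (b : V →ₗ[ZMod p] V) from rfl, Submodule.map_comp, hb i, ha i]
    | inv a _ ha =>
      intro i
      conv_lhs => rw [← ha i]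
      rw [← Submodule.map_comp, show ((a⁻¹ : V ≃ₗ[ZMod p] V) : V →ₗ[ZMod p] V).comp
        (a : V →ₗ[ZMod p] V) = LinearMap.id from LinearMap.ext fun x => a.symm_apply_apply x,
        Submodule.map_id]
  have hcomm : ∀ i i' : ι, i ≠ i' → ∀ a ∈ Ki i, ∀ b ∈ Ki i', a * b = b * a := by
    intro i i' hne
    have key : ∀ q (hq : S.NZ q) r (hr : S.NZ r), cls q hq ≠ cls r hr →
        tv q.1 q.2 * tv r.1 r.2 = tv r.1 r.2 * tv q.1 q.2 := by
      intro q hq r hr hqr
      have h1 : q.2 r.1 = 0 := hcross _ _ hqr.symm _ (hmem' r hr).1 _ (hmem' q hq).2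
      have h3 : r.2 q.1 = 0 := hcross _ _ hqr _ (hmem' q hq).1 _ (hmem' r hr).2
      ext x
      simp [tv_apply (hΦ q hq.1).1, tv_apply (hΦ r hr.1).1, h1, h3]
      abel
    intro a ha b hb
    have h1 : Ki i ≤ Subgroup.centralizer (Ki i' : Set (V ≃ₗ[ZMod p] V)) := by
      refine (Subgroup.closure_le _).mpr ?_
      rintro _ ⟨q, hq, hqi, rfl⟩
      rw [SetLike.mem_coe, Subgroup.mem_centralizer_iff]
      intro b hb
      have h1' : Ki i' ≤ Subgroup.centralizer {tv q.1 q.2} := by
        refine (Subgroup.closure_le _).mpr ?_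
        rintro _ ⟨r, hr, hri, rfl⟩
        rw [SetLike.mem_coe, Subgroup.mem_centralizer_iff]
        rintro _ rfl
        exact key q hq r hr fun e' => hne (by rw [← hqi, ← hri, e'])
      exact (Subgroup.mem_centralizer_iff.mp (h1' hb) _ rfl).symm
    exact (Subgroup.mem_centralizer_iff.mp (h1 ha) b hb).symm
  have hnormal : ∀ j, ((K j).subgroupOf H).Normal := by
    intro j
    refine (Subgroup.normal_subgroupOf_iff_le_normalizer (hKH _)).mpr ?_
    conv_lhs => rw [← hsup]
    refine iSup_le fun j' => ?_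
    by_cases hj : j' = j
    · rw [hj]; exact Subgroup.le_normalizer
    intro a ha
    rw [Subgroup.mem_normalizer_iff]
    intro b
    have hc : ∀ b ∈ K j, a * b * a⁻¹ = b := fun b hb => by
      rw [hcomm _ _ (fun e' => hj (e.symm.injective e')) a ha b hb, mul_inv_cancel_right]
    constructor
    · intro hb
      show a * b * a⁻¹ ∈ K j
      rw [hc b hb]; exact hb
    · intro hb
      change a * b * a⁻¹ ∈ K j at hb
      have h := hc _ hb
      have hb' : a * b * a⁻¹ = b := mul_left_cancel (a := a) (mul_right_cancel (b := a⁻¹) h)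
      show b ∈ K j
      rw [← hb']; exact hb
  -- the decomposition
  have htop : ⨆ i, W i = ⊤ := by
    refine Submodule.eq_top_iff'.mpr fun v => ?_
    choose u hu hu' using fun c => (hperf c).repr v
    have hC' : v - ∑ c, u c ∈ C := by
      refine (hC _).mpr fun q hq => ?_
      rw [map_sub, map_sum, Finset.sum_eq_single (cls q hq)
        (fun d _ hd => hcross d _ hd _ (hu d) _ (hmem' q hq).2)
        (fun h => absurd (Finset.mem_univ _) h)]
      have := hu' (cls q hq) q.2 (hmem' q hq).2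
      rw [hB, hB] at this
      rw [this, sub_self]
    rw [← sub_add_cancel v (∑ c, u c)]
    refine Submodule.add_mem _ ?_ (Submodule.sum_mem _ fun c _ => ?_)
    · exact SetLike.le_def.mp (le_iSup W 0) hC'
    · refine SetLike.le_def.mp (le_iSup W (e (some c)).succ) ?_
      rw [hWs, e.symm_apply_apply]
      exact hu c
  have hint : DirectSum.IsInternal W := by
    rw [DirectSum.isInternal_submodule_iff_iSupIndep_and_iSup_eq_top]
    refine ⟨?_, htop⟩
    rw [iSupIndep_def]
    intro i
    rw [Submodule.disjoint_def]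
    intro x hx hx'
    induction i using Fin.cases with
    | zero =>
      have hle : (⨆ (i : Fin (n + 1)) (_ : i ≠ 0), W i) ≤ ⨆ c, U c := by
        refine iSup₂_le fun i hi => ?_
        obtain ⟨j, rfl⟩ := Fin.exists_succ_eq.mpr hi
        rw [hWs]
        cases e.symm j with
        | none => exact bot_le
        | some c => exact le_iSup U c
      obtain ⟨g, hg, hgsum⟩ :=
        (Submodule.mem_iSup_iff_exists_finsupp U x).mp (hle hx')
      rw [Finsupp.sum_fintype _ _ (fun _ => rfl)] at hgsum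
      rw [← hgsum]
      refine Finset.sum_eq_zero fun c _ => (hperf c).1 _ (hg c) fun f hf => ?_
      by_cases hf0 : f = 0
      · simp [hf0]
      obtain ⟨w, hw⟩ := hax c f hf hf0
      have hfx : f x = 0 := (hC x).mp hx _ (S.conn_nz hw (Quotient.out c).2)
      rw [← hgsum, map_sum, Finset.sum_eq_single c
        (fun d _ hd => hcross d c hd _ (hg d) _ hf)
        (fun h => absurd (Finset.mem_univ _) h)] at hfx
      exact hfx
    | succ j =>
      rw [hWs] at hx
      generalize hej : e.symm j = i at hx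
      cases i with
      | none => exact (Submodule.mem_bot _).mp hx
      | some c =>
        have hle : (⨆ (i : Fin (n + 1)) (_ : i ≠ j.succ), W i) ≤ (U' c).dualCoannihilator := by
          refine iSup₂_le fun i hi y hy => ?_
          rw [Submodule.mem_dualCoannihilator]
          intro f hf
          by_cases hf0 : f = 0
          · simp [hf0]
          obtain ⟨w, hw⟩ := hax c f hf hf0
          induction i using Fin.cases with
          | zero => exact (hC y).mp hy _ (S.conn_nz hw (Quotient.out c).2)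
          | succ j' =>
            rw [hWs] at hy
            have hwn := S.conn_nz hw (Quotient.out c).2
            refine hkill _ hwn _ (fun e' => hi ?_) y hy
            rw [hcls c _ hwn hw, ← hej] at e'
            rw [e.symm.injective e']
        have := (Submodule.mem_dualCoannihilator _).mp (hle hx')
        exact (hperf c).1 x hx fun f hf => this f hf
  have hn : 1 ≤ n := Fintype.card_pos_iff.mpr ⟨(none : Option Comp)⟩
  refine ⟨n, W, K, hn, hint, hinv, fun j => ⟨hKH _, hnormal j⟩, hsup, ?_, ?_, ?_, ?_⟩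
  · intro j
    rw [Subgroup.eq_bot_iff_forall]
    rintro h ⟨hh, hh'⟩
    have h1 : (⨆ j' ∈ {j' : Fin n | j' ≠ j}, K j') ≤ fixSub (W j.succ) :=
      iSup₂_le fun j' hj' => by
        rw [hWs]; exact hgenfix _ _ fun e' => hj' (e.symm.injective e')
    have h2' := h1 hh'
    refine LinearEquiv.ext fun x => ?_
    have hall : ⨆ i, W i ≤ LinearMap.eqLocus (h : V →ₗ[ZMod p] V) LinearMap.id := by
      refine iSup_le fun i y hy => ?_
      show h y = y
      induction i using Fin.cases with
      | zero => exact hfixC _ hh y hy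
      | succ j' =>
        by_cases hj : j' = j
        · exact h2' y (hj ▸ hy)
        · rw [hWs] at hy
          exact hgenfix _ _ (fun e' => hj (e.symm.injective e').symm) hh y hy
    exact hall (htop ▸ Submodule.mem_top : x ∈ ⨆ i, W i)
  · exact fun j j' hne a ha b hb => hcomm _ _ (fun e' => hne (e.symm.injective e')) a ha b hb
  · intro j h hh i hi v hv
    induction i using Fin.cases with
    | zero => exact hfixC _ hh v hv
    | succ j' =>
      rw [hWs] at hv
      exact hgenfix _ _ (fun e' => hi (by rw [e.symm.injective e'])) hh v hv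
  intro j
  have hM : ∀ h ∈ K j, (W j.succ).map (h : V →ₗ[ZMod p] V) = W j.succ :=
    fun h hh => hinv h (hKH _ hh) _
  refine ⟨restrHom (K j) (W j.succ) hM, restrHom_apply _ _ _, ?_⟩
  -- generators of the restricted group
  have hgen : ∀ (M : Subgroup (↥(W j.succ) ≃ₗ[ZMod p] ↥(W j.succ))),
      (∀ q (hq : S.NZ q) (hv : q.1 ∈ W j.succ), some (cls q hq) = e.symm j →
        tv (⟨q.1, hv⟩ : ↥(W j.succ)) (q.2.comp (W j.succ).subtype) ∈ M) →
      (restrHom (K j) (W j.succ) hM).range ≤ M := by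
    intro M hMgen
    rintro _ ⟨⟨a, ha⟩, rfl⟩
    induction ha using Subgroup.closure_induction with
    | mem a ha =>
      obtain ⟨q, hq, hqi, rfl⟩ := ha
      have hv : q.1 ∈ W j.succ := by rw [hWs, ← hqi]; exact (hmem' q hq).1
      have := restrHom_tv (K j) (W j.succ) hM (v := ⟨q.1, hv⟩) (f := q.2) (hΦ q hq.1).1
        (Subgroup.subset_closure ⟨q, hq, hqi, rfl⟩)
      rw [show restrHom (K j) (W j.succ) hM ⟨tv q.1 q.2, _⟩ = _ from this]
      exact hMgen q hq hv hqi
    | one => exact (map_one (restrHom (K j) (W j.succ) hM)).symm ▸ M.one_mem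
    | mul a b ha hb iha ihb =>
      have := M.mul_mem iha ihb
      rwa [← map_mul] at this
    | inv a ha iha =>
      have := M.inv_mem iha
      rwa [← map_inv] at this
  generalize hej : e.symm j = i
  cases i with
  | none =>
    left
    have hsub : ∀ x : ↥(W j.succ), x = 0 := fun x => Subtype.ext (by
      have hbot : W j.succ = ⊥ := by rw [hWs, hej]; rfl
      exact (Submodule.mem_bot _).mp ((SetLike.ext_iff.mp hbot (x : V)).mp x.2))
    haveI : Subsingleton ↥(W j.succ) := ⟨fun a b => by rw [hsub a, hsub b]⟩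
    haveI : Subsingleton (↥(W j.succ) ≃ₗ[ZMod p] ↥(W j.succ)) :=
      ⟨fun a b => LinearEquiv.ext fun x => Subsingleton.elim _ _⟩
    ext f
    simp only [SetLike.mem_coe, Set.mem_ofPred_eq, Subsingleton.elim f 1, Subgroup.one_mem,
      true_iff]
    exact LinearMap.det_id
  | some c =>
    have hWc : W j.succ = U c := by rw [hWs, hej]; rfl
    have hv0 : ∀ {v : ↥(W j.succ)} {f : Dual (ZMod p) ↥(W j.succ)}, v = 0 ∨ f = 0 →
        tv v f = 1 := by
      rintro v f (rfl | rfl)
      · exact tv_zero_left f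
      · exact tv_zero_right v
    have hin : ∀ (v : ↥(W j.succ)) (g : Dual (ZMod p) V) (f : Dual (ZMod p) ↥(W j.succ)),
        ((v : V), g) ∈ S.Φ → g.comp (W j.succ).subtype = f →
        tv v f ∈ (restrHom (K j) (W j.succ) hM).range := by
      intro v g f hg hgf
      by_cases hvf : v = 0 ∨ f = 0
      · rw [hv0 hvf]; exact Subgroup.one_mem _
      push Not at hvf
      have hnz : S.NZ ((v : V), g) := ⟨hg, fun h => hvf.1 (Subtype.ext h),
        fun h => hvf.2 (by rw [← hgf, show g = 0 from h, LinearMap.zero_comp])⟩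
      have hqi : some (cls _ hnz) = e.symm j := by
        rw [hej, hptcls _ hnz c (hWc ▸ v.2)]
      have := restrHom_tv (K j) (W j.succ) hM (v := v) (f := g) (hΦ _ hg).1
        (Subgroup.subset_closure ⟨_, hnz, hqi, rfl⟩)
      rw [← hgf, ← this]
      exact ⟨_, rfl⟩
    rcases hshape c with hsl | ⟨Γ, hΓ, hUΓ, -, hΓc⟩
    · left
      ext f
      simp only [SetLike.mem_coe, Set.mem_ofPred_eq]
      constructor
      · intro hf
        refine det_of_mem (hgen _ (fun q hq hv _ => ?_) hf)
        exact tv_mem_slGroup (by simpa using (hΦ q hq.1).1)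
      · refine mem_of_det_eq_one _ (fun v ℓ hℓ => ?_) f
        obtain ⟨g, hg, hg'⟩ := (hperf c).dual_surj
          (ℓ.comp (Submodule.inclusion (le_of_eq hWc.symm)))
        refine hin v g ℓ (hsl _ (hWc ▸ v.2) g hg ?_) ?_
        · rw [hg' ⟨v, hWc ▸ v.2⟩]; exact hℓ
        · ext x
          exact hg' ⟨x, hWc ▸ x.2⟩
    · right
      let fstΓ : ↥Γ →ₗ[ZMod p] ↥(W j.succ) :=
        LinearMap.codRestrict _ ((LinearMap.fst _ _ _).comp Γ.subtype) fun γ => by
          rw [hWc, hUΓ]; exact ⟨_, γ.2, rfl⟩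
      have hfst : Function.Bijective fstΓ := by
        constructor
        · rw [injective_iff_map_eq_zero]
          intro γ hγ
          have h0 : (γ : V × Dual (ZMod p) V).1 = 0 := congrArg Subtype.val hγ
          exact Subtype.ext (hΓ.2 _ γ.2 fun η _ => by rw [h0]; simp)
        · intro x
          have hx : (x : V) ∈ Γ.map (LinearMap.fst _ _ _) := hUΓ ▸ hWc ▸ x.2
          obtain ⟨γ, hγ, hγx⟩ := hx
          exact ⟨⟨γ, hγ⟩, Subtype.ext hγx⟩
      let ξ : ↥(W j.succ) →ₗ[ZMod p] V × Dual (ZMod p) V :=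
        Γ.subtype.comp (LinearEquiv.ofBijective fstΓ hfst).symm.toLinearMap
      have hξ : ∀ x, ξ x ∈ Γ ∧ (ξ x).1 = (x : V) := fun x => by
        refine ⟨Subtype.property _, ?_⟩
        exact congrArg Subtype.val ((LinearEquiv.ofBijective fstΓ hfst).apply_symm_apply x)
      let β : LinearMap.BilinForm (ZMod p) ↥(W j.succ) :=
        LinearMap.compl₁₂ S.B (W j.succ).subtype ((LinearMap.snd _ _ _).comp ξ)
      have hβ : ∀ x y, β x y = (ξ y).2 (x : V) := fun _ _ => rfl
      have hskew : ∀ x y : ↥(W j.succ), (ξ x).2 (y : V) = -β x y := fun x y => by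
        rw [hβ, ← (hξ x).2, ← (hξ y).2]
        have := hΓ.skew (hξ x).1 (hξ y).1
        rw [hB, hB] at this
        exact this
      have halt : β.IsAlt := fun x => by
        rw [hβ, ← (hξ x).2]
        exact (hΦ _ (hΓ.1 _ (hξ x).1)).1
      have hnd : β.Nondegenerate := by
        have hleft : ∀ x, (∀ y, β x y = 0) → x = 0 := fun x hx => by
          have h0 := hΓ.2 _ (hξ x).1 fun η hη => by
            obtain ⟨y, hy⟩ : ∃ y, ξ y = η := ⟨fstΓ ⟨η, hη⟩, by
              show ((LinearEquiv.ofBijective fstΓ hfst).symm (fstΓ ⟨η, hη⟩) : V × _) = η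
              rw [LinearEquiv.ofBijective_symm_apply_apply]⟩
            rw [(hξ x).2, hB, ← hy]
            exact hx y
          exact Subtype.ext (by rw [← (hξ x).2, h0]; rfl)
        refine ⟨hleft, fun y hy => hleft y fun x => ?_⟩
        rw [← LinearMap.IsAlt.neg halt x y, hy x, neg_zero]
      refine ⟨β, halt, hnd, ?_⟩
      ext f
      simp only [SetLike.mem_coe, Set.mem_ofPred_eq]
      constructor
      · intro hf
        refine spGroup_isometry halt (hgen _ (fun q hq hv hqi => ?_) hf)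
        rw [hej] at hqi
        obtain ⟨d, hd, hdΓ⟩ := hΓc q (hout c q hq (Option.some.inj hqi))
        have hξv : ξ ⟨q.1, hv⟩ = (q.1, d • q.2) := by
          have h1 := hξ ⟨q.1, hv⟩
          exact congrArg Subtype.val (hfst.1 (a₁ := ⟨_, h1.1⟩) (a₂ := ⟨_, hdΓ⟩)
            (Subtype.ext h1.2))
        refine Subgroup.subset_closure ⟨⟨q.1, hv⟩, -d⁻¹, ?_⟩
        congr 1
        ext x
        have := hskew ⟨q.1, hv⟩ x
        rw [hξv] at this
        simp only [LinearMap.smul_apply, smul_eq_mul] at this ⊢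
        rw [neg_mul, ← mul_neg, ← this, ← mul_assoc, inv_mul_cancel₀ hd, one_mul]
        rfl
      · refine mem_of_isometry halt hnd _ (fun a d => ?_) f
        have hmemΦ : ((a : V), (-d) • (ξ a).2) ∈ S.Φ := by
          have := S.smulR (-d) (v := (ξ a).1) (f := (ξ a).2) (hΓ.1 _ (hξ a).1)
          rwa [(hξ a).2] at this
        refine hin a _ _ hmemΦ (LinearMap.ext fun x => ?_)
        simp [hskew a x]

end Cfsg.Agent.TransvGen
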